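import Cfsg.Agent.H666.GU.GuFin
import Cfsg.Agent.H531.GU.R2
import Cfsg.Agent.H531.GU.Eig
import Cfsg.Agent.H501.GU.Tau
import Cfsg.Agent.H794.GUT.Fin
import Cfsg.Agent.H941.GU.Complete
import Cfsg.Agent.H614.GU.Fld

/-!
# The tower of the groups `GU n F q`, `n ≤ N` (S4537)

`C : Ctx F θ N M`, `hF : Fintype.card F = q ^ 2`, `Q = -q`:
* `TU C hF n hn` : the class data over the finite field `K`; `isTypU`;
* `rzU C hF hp hpF hn : RzHyp θ M p (TU C hF n hn)` (R2, R4); `bijU`, `grU`, `splU`, `linU`.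
-/

set_option autoImplicit false
set_option linter.unusedSectionVars false

open Cfsg Polynomial
open scoped ComplexConjugate MatrixGroups

namespace Cfsg.Agent.H666.GU

open Cfsg.Agent.H577.GLB Cfsg.Agent.H577.GLB.Std Cfsg.Agent.H614 Cfsg.Agent.H112.GLB
open Cfsg.Agent.H615.GU Cfsg.Agent.H421.GU Cfsg.Agent.H666.Clif Cfsg.Agent.H614.GU Cfsg.Agent.H623.GU
open Cfsg.Agent.H608.BlockRank Cfsg.Agent.Blocks.Local Cfsg.Agent.H614.GLn

universe u

variable {F : Type u} [Field F] [Fintype F] {K : Type u} [Field K] [Algebra F K] {θ : K →*₀ ℂ} {q N M p : ℕ}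

theorem natCard_eq (hF : Fintype.card F = q ^ 2) : Nat.card F = q ^ 2 := by rw [Nat.card_eq_fintype_card, hF]

/-- the context for `Q = -q` -/
theorem ctxU (C : Ctx F θ N M) (hF : Fintype.card F = q ^ 2) : CtxQ θ (-(q : ℤ)) M N := ctxQ_of_ctx C (natCard_eq hF)

theorem dvdU (C : Ctx F θ N M) (hF : Fintype.card F = q ^ 2) :
    ∀ k, 0 < k → k ≤ N → ((-(q : ℤ)) ^ k - 1) ∣ (Nat.card Kˣ : ℤ) := by
  intro k hk hkN
  rw [(ctxU C hF).card]
  exact (ctxU C hF).dvd k hk hkN

/-- the class data of `GU n F q` -/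
noncomputable def TU (C : Ctx F θ N M) (hF : Fintype.card F = q ^ 2) (n : ℕ) (hn : n ≤ N) :
    TypeData (dOrb K (-(q : ℤ))) (-(q : ℤ)) (Cfsg.GU n F q) n :=
  have := C.finK
  H794.GUT.typeDataK hF (dvdU C hF) n hn

theorem isTypU (C : Ctx F θ N M) (hF : Fintype.card F = q ^ 2) {n : ℕ} (hn : n ≤ N) : IsTypU q n (TU C hF n hn) := by
  have := C.finK
  intro g x
  exact H794.GUT.typeDataK_typ hF (dvdU C hF) hn g x

theorem splU (C : Ctx F θ N M) {n : ℕ} (hn : n ≤ N) :
    ∀ h : F[X], h.Monic → h.natDegree ≤ n → (h.map (algebraMap F K)).Splits :=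
  fun h hm hd => C.spl h hm (hd.trans hn)

theorem cast_ne_zero_of (hp : p.Prime) (hpF : p ≠ ringChar F) : (p : F) ≠ 0 := by
  intro h
  have h1 := (ringChar.spec F p).1 h
  have h2 : (ringChar F).Prime := by
    rcases CharP.char_is_prime_or_zero F (ringChar F) with h | h
    · exact h
    · exfalso
      have : CharP F 0 := h ▸ ringChar.charP F
      have : CharZero F := CharP.charP_to_charZero F
      exact not_finite F
  exact hpF ((Nat.prime_dvd_prime_iff_eq h2 hp).1 h1).symm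

/-- (R2) and (R4) for `GU n F q` -/
theorem rzU [NeZero M] (C : Ctx F θ N M) (hF : Fintype.card F = q ^ 2) (hp : p.Prime) (hpF : p ≠ ringChar F) {n : ℕ}
    (hn : n ≤ N) : RzHyp θ M p (TU C hF n hn) where
  unit := (ctxU C hF).unit
  iso := fun {_} x hx y hy => H531.GU.R2 (ctxU C hF) hn (TU C hF n hn) hx hy
  tau := by
    classical
    have := C.finK
    intro x hx
    funext g
    have hctx := ctxU C hF
    rw [omT_apply, H501.GU.evR_tauP hctx.card hctx.unit hctx.inj hp hctx.dvd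
      (fun v x => H531.GU.evR_X_mul θ _ M H521.GU.i2s v x) (hom_le_genR n x hx) _
      (((TU C hF n hn).deg g).le.trans hn)]
    have h1 := H697.GW.preg_iff_GU (splU C hn) (isTypU C hF hn) hp (cast_ne_zero_of hp hpF) g
    have h2 : IsPRegular p g ↔ PregT (-(q : ℤ)) p ((TU C hF n hn).typ g) := by
      rw [← h1, IsPRegular, Nat.coprime_comm, hp.coprime_iff_not_dvd]
    by_cases h : IsPRegular p g
    · rw [pReg_of h, if_pos (h2.1 h), omT_apply]
    · rw [pReg_of_not h, if_neg (fun h' => h (h2.2 h'))]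

theorem grU [NeZero M] (C : Ctx F θ N M) (hF : Fintype.card F = q ^ 2) (hp : p.Prime) (hpF : p ≠ ringChar F) {n : ℕ}
    (hn : n ≤ N) : Gr (rzU C hF hp hpF hn).rz :=
  have := C.finK
  RzHyp.gr H521.GU.i2s _

theorem eintU (C : Ctx F θ N M) (hF : Fintype.card F = q ^ 2) :
    H531.GU.EInt θ (G := fun n => Cfsg.GU n F q) (TU C hF) :=
  H531.GU.eInt_of C (fun n => (Cfsg.GU n F q).subtype) (fun _ hn g y => isTypU C hF hn g y)

theorem q_ne_zero (hF : Fintype.card F = q ^ 2) : q ≠ 0 := by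
  rintro rfl
  have h1 : 0 < Fintype.card F := Fintype.card_pos
  rw [hF] at h1
  norm_num at h1

theorem wintU (C : Ctx F θ N M) (hF : Fintype.card F = q ^ 2) :
    H531.GU.WInt (G := fun n => Cfsg.GU n F q) (TU C hF) := by
  have := C.finK
  intro n m hn hm
  exact Cfsg.Agent.OddOrderCharacters.VChar.gen_of_char (H794.GUT.weilK hF (dvdU C hF) (q_ne_zero hF) n m hn hm)

/-- the labels classify the irreducible characters of `GU n F q` -/
theorem bijU [NeZero M] (C : Ctx F θ N M) (hF : Fintype.card F = q ^ 2) (hp : p.Prime) (hpF : p ≠ ringChar F) {n m : ℕ}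
    (hn : n ≤ N) (hm : n ≤ m) : (rzU C hF hp hpF hn).rz.Bij m := by
  have := C.finK
  exact rz_bij (G := fun n => Cfsg.GU n F q) (T := TU C hF) H521.GU.i2s (ctxU C hF) (eintU C hF) (wintU C hF)
    (fun n hn => rzU C hF hp hpF hn)
    (fun n hn => by
      obtain ⟨x, hx, h1, h2⟩ := H941.GU.exists_one_typ (ctxU C hF) hn (TU C hF n hn)
      exact ⟨x, hx, h2, h1⟩) n m hn hm

/-- the labels of the linear characters -/
noncomputable def linU [NeZero M] (C : Ctx F θ N M) (hF : Fintype.card F = q ^ 2) (hp : p.Prime)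
    (hpF : p ≠ ringChar F) {n : ℕ} (hn : n ≤ N) (hn0 : 0 < n) : LinData (rzU C hF hp hpF hn).rz (suS F n q) :=
  guLin (natCard_eq hF) (ctxU C hF) hn hn0 (splU C hn) (isTypU C hF hn) (rzU C hF hp hpF hn)

end Cfsg.Agent.H666.GU
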