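import Cfsg.Agent.H666.Clif.Rank

/-!
# Elementary abelian sections
-/

set_option autoImplicit false
set_option linter.unusedSectionVars false

open Cfsg

namespace Cfsg.Agent.H666.GU

section

variable {G : Type*} [Group G]

/-- `D` has an elementary abelian section of rank at least `r` -/
def Sec (p r : ℕ) (D : Subgroup G) : Prop :=
  ∃ H K : Subgroup G, H ≤ D ∧ K ≤ H ∧ (∀ h ∈ H, ∀ k ∈ K, h * k * h⁻¹ ∈ K) ∧
    (∀ x ∈ H, ∀ y ∈ H, x * y * (y * x)⁻¹ ∈ K) ∧ (∀ x ∈ H, x ^ p ∈ K) ∧ p ^ r * Nat.card K ≤ Nat.card H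

theorem Sec.mono {p r : ℕ} {D D' : Subgroup G} (h : Sec p r D) (hD : D ≤ D') : Sec p r D' := by
  obtain ⟨H, K, h1, h2⟩ := h
  exact ⟨H, K, h1.trans hD, h2⟩

theorem Sec.map {p r : ℕ} {G' : Type*} [Group G'] {D : Subgroup G} (h : Sec p r D) (f : G →* G')
    (hf : Function.Injective f) : Sec p r (D.map f) := by
  obtain ⟨H, K, h1, h2, h3, h4, h5, h6⟩ := h
  refine ⟨H.map f, K.map f, Subgroup.map_mono h1, Subgroup.map_mono h2, ?_, ?_, ?_, ?_⟩
  · rintro _ ⟨a, ha, rfl⟩ _ ⟨b, hb, rfl⟩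
    exact ⟨a * b * a⁻¹, h3 a ha b hb, by simp⟩
  · rintro _ ⟨a, ha, rfl⟩ _ ⟨b, hb, rfl⟩
    exact ⟨a * b * (b * a)⁻¹, h4 a ha b hb, by simp⟩
  · rintro _ ⟨a, ha, rfl⟩
    exact ⟨a ^ p, h5 a ha, by simp⟩
  · rw [← Nat.card_congr (K.equivMapOfInjective f hf).toEquiv, ← Nat.card_congr (H.equivMapOfInjective f hf).toEquiv]
    exact h6

variable [Finite G]

/-- A section bounds the sectional rank from below. -/
theorem Sec.le {p r s : ℕ} (hp : 1 < p) {D : Subgroup G} (h : Sec p r D) (hs : SectionalPRankLE p s D) : r ≤ s := by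
  obtain ⟨H, K, h1, h2, h3, h4, h5, h6⟩ := h
  let H' : Subgroup D := H.subgroupOf D
  let e : H' ≃* H := Subgroup.subgroupOfEquivOfLe h1
  let K' : Subgroup H' := K.comap (D.subtype.comp H'.subtype)
  have hK' : ∀ x : H', x ∈ K' ↔ ((x : D) : G) ∈ K := fun x => Iff.rfl
  have hH' : ∀ x : H', ((x : D) : G) ∈ H := fun x => x.2
  have hn : K'.Normal := ⟨fun n hn g => by
    rw [hK'] at hn ⊢
    exact h3 _ (hH' g) _ hn⟩
  have hcardK : Nat.card K' = Nat.card K := by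
    let f : K' → K := fun x => ⟨((x : H') : D), x.2⟩
    refine Nat.card_congr (Equiv.ofBijective f ⟨?_, ?_⟩)
    · intro x y hxy
      apply Subtype.ext
      apply Subtype.ext
      apply Subtype.ext
      exact congrArg (fun z : K => (z : G)) hxy
    · rintro ⟨k, hk⟩
      exact ⟨⟨⟨⟨k, h1 (h2 hk)⟩, h2 hk⟩, hk⟩, rfl⟩
  have hcardH : Nat.card H' = Nat.card H := Nat.card_congr e.toEquiv
  refine H666.Clif.card_le_of_section hp hs (H := H') (QuotientGroup.mk' K') (QuotientGroup.mk'_surjective K')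
    ?_ ?_ ?_
  · intro x y
    obtain ⟨a, rfl⟩ := QuotientGroup.mk_surjective x
    obtain ⟨b, rfl⟩ := QuotientGroup.mk_surjective y
    rw [← QuotientGroup.mk_mul, ← QuotientGroup.mk_mul, eq_comm, QuotientGroup.eq]
    rw [hK']
    have h7 := h3 _ (H.inv_mem (H.mul_mem (hH' b) (hH' a))) _ (h4 _ (hH' a) _ (hH' b))
    have h8 : (((b * a)⁻¹ * (a * b) : H') : G) = (((b : D) : G) * ((a : D) : G))⁻¹ *
        (((a : D) : G) * ((b : D) : G) * (((b : D) : G) * ((a : D) : G))⁻¹) *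
        (((b : D) : G) * ((a : D) : G))⁻¹⁻¹ := by
      push_cast
      group
    rw [h8]
    exact h7
  · intro x
    obtain ⟨a, rfl⟩ := QuotientGroup.mk_surjective x
    rw [← QuotientGroup.mk_pow, QuotientGroup.eq_one_iff, hK']
    exact h5 _ (hH' a)
  · have h7 : Nat.card H' = Nat.card (H' ⧸ K') * Nat.card K' := Subgroup.card_eq_card_quotient_mul_card_subgroup K'
    rw [hcardH, hcardK] at h7
    rw [h7] at h6
    exact Nat.le_of_mul_le_mul_right h6 Nat.card_pos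

/-- Products of sections. -/
theorem Sec.prod {p r₁ r₂ : ℕ} {X₁ X₂ : Type*} [Group X₁] [Group X₂] [Finite X₁] [Finite X₂] {D₁ : Subgroup X₁}
    {D₂ : Subgroup X₂} (h : Sec p r₁ D₁) (h' : Sec p r₂ D₂) : Sec p (r₁ + r₂) (D₁.prod D₂) := by
  obtain ⟨H, K, h1, h2, h3, h4, h5, h6⟩ := h
  obtain ⟨H', K', h1', h2', h3', h4', h5', h6'⟩ := h'
  refine ⟨H.prod H', K.prod K', Subgroup.prod_mono h1 h1', Subgroup.prod_mono h2 h2', ?_, ?_, ?_, ?_⟩
  · rintro ⟨a, b⟩ ⟨ha, hb⟩ ⟨c, d⟩ ⟨hc, hd⟩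
    exact ⟨h3 a ha c hc, h3' b hb d hd⟩
  · rintro ⟨a, b⟩ ⟨ha, hb⟩ ⟨c, d⟩ ⟨hc, hd⟩
    exact ⟨h4 a ha c hc, h4' b hb d hd⟩
  · rintro ⟨a, b⟩ ⟨ha, hb⟩
    exact ⟨h5 a ha, h5' b hb⟩
  · rw [Nat.card_congr (K.prodEquiv K').toEquiv, Nat.card_congr (H.prodEquiv H').toEquiv, Nat.card_prod,
      Nat.card_prod, pow_add]
    calc p ^ r₁ * p ^ r₂ * (Nat.card K * Nat.card K') = (p ^ r₁ * Nat.card K) * (p ^ r₂ * Nat.card K') := by ring
      _ ≤ _ := Nat.mul_le_mul h6 h6'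

/-- The intersection with a normal subgroup with cyclic quotient. -/
theorem Sec.inf {p r : ℕ} (hp : 0 < p) {D : Subgroup G} (h : Sec p (r + 1) D) (S : Subgroup G) [S.Normal]
    (hcyc : IsCyclic (G ⧸ S)) : Sec p r (D ⊓ S) := by
  obtain ⟨H, K, h1, h2, h3, h4, h5, h6⟩ := h
  have hS : ∀ a : G, ∀ s ∈ S, a * s * a⁻¹ ∈ S := fun a s hs => Subgroup.Normal.conj_mem inferInstance s hs a
  refine ⟨H ⊓ S, K ⊓ S, inf_le_inf_right S h1, inf_le_inf_right S h2, ?_, ?_, ?_, ?_⟩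
  · rintro a ⟨ha, -⟩ b ⟨hb, hb'⟩
    exact ⟨h3 a ha b hb, hS a b hb'⟩
  · rintro a ⟨ha, ha'⟩ b ⟨hb, hb'⟩
    exact ⟨h4 a ha b hb, S.mul_mem (S.mul_mem ha' hb') (S.inv_mem (S.mul_mem hb' ha'))⟩
  · rintro a ⟨ha, ha'⟩
    exact ⟨h5 a ha, S.pow_mem ha' p⟩
  · -- cardinalities
    have hcard : ∀ A : Subgroup G, Nat.card A = Nat.card (A ⊓ S : Subgroup G) * Nat.card (A.map (QuotientGroup.mk' S)) := by
      intro A
      have e1 := Subgroup.card_mul_index (S.subgroupOf A)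
      have e2 : (S.subgroupOf A).index = Nat.card (A.map (QuotientGroup.mk' S)) := by
        have e3 : (QuotientGroup.mk' S).ker.relIndex A = Nat.card (A.map (QuotientGroup.mk' S)) := by
          rw [Subgroup.relIndex_ker]
        rw [QuotientGroup.ker_mk'] at e3
        exact e3
      rw [← e1, e2]
      congr 1
      rw [← Subgroup.inf_subgroupOf_left]
      exact Nat.card_congr (Subgroup.subgroupOfEquivOfLe (inf_le_left : A ⊓ S ≤ A)).toEquiv
    have hq : Nat.card (H.map (QuotientGroup.mk' S)) ≤ p * Nat.card (K.map (QuotientGroup.mk' S)) := by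
      have : IsCyclic (H.map (QuotientGroup.mk' S)) := inferInstance
      obtain ⟨g, hg⟩ := IsCyclic.exists_generator (α := H.map (QuotientGroup.mk' S))
      have e1 : orderOf g = Nat.card (H.map (QuotientGroup.mk' S)) := orderOf_eq_card_of_forall_mem_zpowers hg
      have e2 : (g : G ⧸ S) ^ p ∈ K.map (QuotientGroup.mk' S) := by
        obtain ⟨a, ha, hag⟩ := g.2
        exact ⟨a ^ p, h5 a ha, by rw [map_pow, hag]⟩
      have e3 : orderOf ((g : G ⧸ S) ^ p) ≤ Nat.card (K.map (QuotientGroup.mk' S)) := by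
        rw [← Nat.card_zpowers]
        exact Subgroup.card_le_of_le ((Subgroup.zpowers_le).2 e2)
      have e4 : orderOf ((g : G ⧸ S) ^ p) = orderOf g / Nat.gcd (orderOf g) p := by
        rw [orderOf_pow, Subgroup.orderOf_coe]
      have e5 : orderOf g ≤ p * orderOf ((g : G ⧸ S) ^ p) := by
        rw [e4]
        have e6 : Nat.gcd (orderOf g) p ≤ p := Nat.le_of_dvd hp (Nat.gcd_dvd_right _ _)
        have e7 : Nat.gcd (orderOf g) p * (orderOf g / Nat.gcd (orderOf g) p) = orderOf g :=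
          Nat.mul_div_cancel' (Nat.gcd_dvd_left _ _)
        calc orderOf g = Nat.gcd (orderOf g) p * (orderOf g / Nat.gcd (orderOf g) p) := e7.symm
          _ ≤ p * (orderOf g / Nat.gcd (orderOf g) p) := Nat.mul_le_mul_right _ e6
      rw [← e1]
      exact e5.trans (Nat.mul_le_mul_left _ e3)
    have hH := hcard H
    have hK := hcard K
    have hHpos : 0 < Nat.card (H.map (QuotientGroup.mk' S)) := Nat.card_pos
    have hKpos : 0 < Nat.card (K.map (QuotientGroup.mk' S)) := Nat.card_pos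
    -- `p ^ (r + 1) |K ∩ S| |π K| ≤ |H ∩ S| |π H| ≤ |H ∩ S| p |π K|`
    rw [hH, hK] at h6
    have h7 : p ^ (r + 1) * (Nat.card (K ⊓ S : Subgroup G) * Nat.card (K.map (QuotientGroup.mk' S))) ≤
        Nat.card (H ⊓ S : Subgroup G) * (p * Nat.card (K.map (QuotientGroup.mk' S))) :=
      h6.trans (Nat.mul_le_mul_left _ hq)
    have h8 : (p * Nat.card (K.map (QuotientGroup.mk' S))) * (p ^ r * Nat.card (K ⊓ S : Subgroup G)) ≤
        (p * Nat.card (K.map (QuotientGroup.mk' S))) * Nat.card (H ⊓ S : Subgroup G) := by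
      calc (p * Nat.card (K.map (QuotientGroup.mk' S))) * (p ^ r * Nat.card (K ⊓ S : Subgroup G))
          = p ^ (r + 1) * (Nat.card (K ⊓ S : Subgroup G) * Nat.card (K.map (QuotientGroup.mk' S))) := by ring
        _ ≤ _ := h7
        _ = _ := by ring
    exact Nat.le_of_mul_le_mul_left h8 (Nat.mul_pos hp hKpos)

end

end Cfsg.Agent.H666.GU
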