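import Cfsg.Agent.H666.GU.WreathOut
import Cfsg.Agent.H666.GU.Secn

/-!
# Sections of defect groups and an involution swapping two factors
-/

set_option autoImplicit false
set_option linter.unusedSectionVars false

open Cfsg

namespace Cfsg.Agent.H666.GU

open Cfsg.Agent.H624.Sl

section

variable {X G : Type*} [Group X] [Group G]

/-- the abelian part of the section -/
def aPart (i : X) : Subgroup (X × X) where
  carrier := {x | ∃ k l : ℤ, x = (i ^ k, i ^ (k + 2 * l))}
  one_mem' := ⟨0, 0, by simp; rfl⟩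
  mul_mem' := by
    rintro _ _ ⟨k, l, rfl⟩ ⟨k', l', rfl⟩
    refine ⟨k + k', l + l', ?_⟩
    rw [Prod.mk_mul_mk, ← zpow_add, ← zpow_add]
    congr 2
    ring
  inv_mem' := by
    rintro _ ⟨k, l, rfl⟩
    refine ⟨-k, -l, ?_⟩
    rw [Prod.inv_mk, ← zpow_neg, ← zpow_neg]
    congr 2
    ring

theorem aPart_le {i : X} {j : X × X →* G} {L : Subgroup G} (hr : j.range = L) : (aPart i).map j ≤ L := by
  rw [← hr]
  rintro _ ⟨x, -, rfl⟩
  exact ⟨x, rfl⟩

variable {i : X} {j : X × X →* G} {t : G} (ht : t * t = 1) (hswap : ∀ x y, t * j (x, y) * t⁻¹ = j (y, x))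
include ht hswap

theorem aPart_swap : ∀ l ∈ (aPart i).map j, t * l * t⁻¹ ∈ (aPart i).map j := by
  rintro _ ⟨_, ⟨k, l, rfl⟩, rfl⟩
  rw [hswap]
  exact ⟨_, ⟨k + 2 * l, -l, by congr 2; ring⟩, rfl⟩

/-- The section. -/
theorem sec_three_of [Finite G] [Finite X] (hj : Function.Injective j) (htL : t ∉ j.range) (hi4 : orderOf i = 4) :
    Sec 2 3 (extT ((aPart i).map j) t ht (aPart_swap ht hswap)) := by
  classical
  have hti : t⁻¹ = t := inv_eq_of_mul_eq_one_left ht
  have hi : i ^ (4 : ℤ) = 1 := by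
    have h1 := pow_orderOf_eq_one i
    rw [hi4] at h1
    exact_mod_cast h1
  have hred : ∀ a b : ℤ, (4 : ℤ) ∣ a - b → i ^ a = i ^ b := by
    intro a b hab
    obtain ⟨c, hc⟩ := hab
    have h1 : a = b + 4 * c := by omega
    rw [h1, zpow_add, zpow_mul, hi, one_zpow, mul_one]
  set A := (aPart i).map j with hA
  set e := j (i ^ (2 : ℤ), i ^ (2 : ℤ)) with he
  have hez : ∀ n : ℤ, e ^ n = j (i ^ (2 * n), i ^ (2 * n)) := by
    intro n
    rw [he, ← map_zpow]
    congr 1
    refine Prod.ext ?_ ?_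
    · exact (map_zpow (MonoidHom.fst X X) _ n).trans (zpow_mul i 2 n).symm
    · exact (map_zpow (MonoidHom.snd X X) _ n).trans (zpow_mul i 2 n).symm
  have hK : ∀ n : ℤ, j (i ^ (2 * n), i ^ (2 * n)) ∈ Subgroup.zpowers e := fun n => ⟨n, hez n⟩
  have hcomm : ∀ a ∈ A, ∀ b ∈ A, a * b = b * a := by
    rintro _ ⟨_, ⟨k, l, rfl⟩, rfl⟩ _ ⟨_, ⟨k', l', rfl⟩, rfl⟩
    rw [← map_mul, ← map_mul, Prod.mk_mul_mk, Prod.mk_mul_mk, ← zpow_add, ← zpow_add, ← zpow_add, ← zpow_add]
    congr 3 <;> ring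
  have heA : e ∈ A := ⟨_, ⟨2, 0, by simp⟩, rfl⟩
  have hte : t * e * t⁻¹ = e := hswap _ _
  have hce : ∀ h : G, h ∈ extT A t ht (aPart_swap ht hswap) → ∀ n : ℤ, h * e ^ n * h⁻¹ = e ^ n := by
    intro h hh n
    have hcom : h * e = e * h := by
      rcases hh with hh | hh
      · exact hcomm _ hh _ heA
      · have h1 := hcomm _ hh _ heA
        have h2 : t * e = e * t := by
          calc t * e = t * e * t⁻¹ * t := by group
            _ = e * t := by rw [hte]
        calc h * e = h * t * (t * e) := by rw [mul_assoc h t, ← mul_assoc t t e, ht, one_mul]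
          _ = (h * t * e) * t := by rw [h2]; group
          _ = e * (h * t) * t := by rw [h1]
          _ = e * h := by rw [mul_assoc e, mul_assoc h, ht, mul_one]
    have h3 : Commute h (e ^ n) := (show Commute h e from hcom).zpow_right n
    rw [h3.eq, mul_inv_cancel_right]
  have hc : ∀ a ∈ A, a * (t * a * t⁻¹)⁻¹ ∈ Subgroup.zpowers e := by
    rintro _ ⟨_, ⟨k, l, rfl⟩, rfl⟩
    rw [hswap, ← map_inv, ← map_mul, Prod.inv_mk, Prod.mk_mul_mk, ← zpow_neg, ← zpow_neg, ← zpow_add, ← zpow_add]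
    have h1 : i ^ (k + -(k + 2 * l)) = i ^ (2 * l) := hred _ _ ⟨-l, by ring⟩
    have h2 : k + 2 * l + -k = 2 * l := by ring
    rw [h1, h2]
    exact hK l
  have hmem : ∀ g : G, g ∈ extT A t ht (aPart_swap ht hswap) → g ∈ A ∨ ∃ a ∈ A, g = a * t := by
    rintro g (hg | hg)
    · exact Or.inl hg
    · exact Or.inr ⟨g * t, hg, by rw [mul_assoc, ht, mul_one]⟩
  refine ⟨extT A t ht (aPart_swap ht hswap), Subgroup.zpowers e, le_rfl, ?_, ?_, ?_, ?_, ?_⟩
  · rw [Subgroup.zpowers_le]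
    exact Or.inl heA
  · rintro h hh _ ⟨n, rfl⟩
    change h * e ^ n * h⁻¹ ∈ _
    rw [hce h hh n]
    exact ⟨n, rfl⟩
  · intro x hx y hy
    rcases hmem x hx with hx | ⟨a, ha, rfl⟩
    · rcases hmem y hy with hy | ⟨b, hb, rfl⟩
      · rw [hcomm x hx y hy, mul_inv_cancel]
        exact Subgroup.one_mem _
      · have h1 : x * (b * t) * (b * t * x)⁻¹ = x * b * (t * x * t⁻¹)⁻¹ * b⁻¹ := by group
        have h2 : (t * x * t⁻¹)⁻¹ ∈ A := A.inv_mem (aPart_swap ht hswap x hx)
        rw [h1, mul_assoc x b, hcomm b hb _ h2, ← mul_assoc, mul_inv_cancel_right]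
        exact hc x hx
    · rcases hmem y hy with hy | ⟨b, hb, rfl⟩
      · have h1 : a * t * y * (y * (a * t))⁻¹ = a * (t * y * t⁻¹) * a⁻¹ * y⁻¹ := by group
        have h2 : t * y * t⁻¹ ∈ A := aPart_swap ht hswap y hy
        rw [h1, hcomm a ha _ h2, mul_inv_cancel_right]
        have h3 := (Subgroup.zpowers e).inv_mem (hc y hy)
        rw [mul_inv_rev, inv_inv] at h3
        exact h3
      · have h1 : a * t * (b * t) * (b * t * (a * t))⁻¹ = a * (t * b * t⁻¹) * (t * a * t⁻¹)⁻¹ * b⁻¹ := by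
          group
        have h2 : t * b * t⁻¹ ∈ A := aPart_swap ht hswap b hb
        have h3 : (t * a * t⁻¹)⁻¹ ∈ A := A.inv_mem (aPart_swap ht hswap a ha)
        have h4 : a * (t * b * t⁻¹) * (t * a * t⁻¹)⁻¹ * b⁻¹ =
            (a * (t * a * t⁻¹)⁻¹) * ((t * b * t⁻¹) * b⁻¹) := by
          rw [mul_assoc a, hcomm _ h2 _ h3]
          group
        rw [h1, h4]
        refine Subgroup.mul_mem _ (hc a ha) ?_
        have h5 := (Subgroup.zpowers e).inv_mem (hc b hb)
        rw [mul_inv_rev, inv_inv] at h5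
        exact h5
  · intro x hx
    rcases hmem x hx with hx | ⟨a, ha, rfl⟩
    · obtain ⟨_, ⟨k, l, rfl⟩, rfl⟩ := hx
      have h1 : j (i ^ k, i ^ (k + 2 * l)) ^ 2 = j (i ^ (2 * k), i ^ (2 * k)) := by
        rw [← map_pow, Prod.pow_mk, ← zpow_natCast, ← zpow_natCast, ← zpow_mul, ← zpow_mul]
        congr 2
        · push_cast
          ring_nf
        · exact hred _ _ ⟨l, by push_cast; ring⟩
      rw [h1]
      exact hK k
    · have h1 : (a * t) ^ 2 = a * (t * a * t⁻¹) := by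
        rw [hti, pow_two]
        group
      rw [h1]
      obtain ⟨_, ⟨k, l, rfl⟩, rfl⟩ := ha
      rw [hswap, ← map_mul, Prod.mk_mul_mk, ← zpow_add, ← zpow_add]
      have h2 : k + (k + 2 * l) = 2 * (k + l) := by ring
      have h3 : k + 2 * l + k = 2 * (k + l) := by ring
      rw [h2, h3]
      exact hK _
  · have h1 : Nat.card (Subgroup.zpowers e) = 2 := by
      rw [Nat.card_zpowers, he, orderOf_injective j hj]
      have h2 : orderOf (i ^ (2 : ℤ)) = 2 := by
        have h3 : i ^ (2 : ℤ) = i ^ 2 := by norm_cast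
        rw [h3, orderOf_pow, hi4]
        rfl
      rw [Prod.orderOf, h2]
      rfl
    rw [h1]
    let f : Fin 4 × Fin 2 × Bool → extT A t ht (aPart_swap ht hswap) := fun x =>
      ⟨j (i ^ ((x.1 : ℕ) : ℤ), i ^ (((x.1 : ℕ) : ℤ) + 2 * ((x.2.1 : ℕ) : ℤ))) * (if x.2.2 then t else 1), by
        split_ifs
        · refine Or.inr ?_
          rw [mul_assoc, ht, mul_one]
          exact ⟨_, ⟨_, _, rfl⟩, rfl⟩
        · rw [mul_one]
          exact Or.inl ⟨_, ⟨_, _, rfl⟩, rfl⟩⟩
    have hf : Function.Injective f := by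
      rintro ⟨k, l, b⟩ ⟨k', l', b'⟩ h
      have h2 := congrArg (fun z : extT A t ht (aPart_swap ht hswap) => (z : G)) h
      change j _ * (if b then t else 1) = j _ * (if b' then t else 1) at h2
      have hbb : b = b' := by
        by_contra hne
        apply htL
        rcases b with _ | _ <;> rcases b' with _ | _
        · exact absurd rfl hne
        · simp only [Bool.false_eq_true, if_false, if_true, mul_one] at h2
          rw [eq_comm, ← eq_inv_mul_iff_mul_eq, ← map_inv, ← map_mul] at h2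
          exact ⟨_, h2.symm⟩
        · simp only [Bool.false_eq_true, if_false, if_true, mul_one] at h2
          rw [← eq_inv_mul_iff_mul_eq, ← map_inv, ← map_mul] at h2
          exact ⟨_, h2.symm⟩
        · exact absurd rfl hne
      subst hbb
      have h3 := hj (mul_right_cancel h2)
      rw [Prod.mk.injEq] at h3
      have hk : k = k' := by
        apply Fin.ext
        have h4 := h3.1
        rw [zpow_natCast, zpow_natCast] at h4
        exact pow_injOn_Iio_orderOf (by rw [hi4]; exact k.2) (by rw [hi4]; exact k'.2) h4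
      subst hk
      have hl : l = l' := by
        apply Fin.ext
        have h4 := h3.2
        rw [zpow_add, zpow_add] at h4
        have h5 := mul_left_cancel h4
        have h6 : i ^ (2 * (l : ℕ)) = i ^ (2 * (l' : ℕ)) := by exact_mod_cast h5
        have h7 := pow_injOn_Iio_orderOf (x := i) (by rw [hi4]; have := l.2; simp; omega)
          (by rw [hi4]; have := l'.2; simp; omega) h6
        omega
      subst hl
      rfl
    have h2 := Nat.card_le_card_of_injective f hf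
    have h3 : Nat.card (Fin 4 × Fin 2 × Bool) = 16 := by
      rw [Nat.card_eq_fintype_card]
      rfl
    rw [h3] at h2
    exact h2

end

section

variable {X G : Type*} [Group X] [Finite X] [Group G] [Finite G] {𝔐 : Ideal AlgInt}

/-- **WR2.** -/
theorem wreath_sec (hM : IsPModular 2 𝔐) (L : Subgroup G) (j : X × X →* G)
    (hj : Function.Injective j) (hr : j.range = L) (t : G) (ht : t * t = 1)
    (hswap : ∀ x y, t * j (x, y) * t⁻¹ = j (y, x)) (z : X) (hz : ∃ k : ℕ, orderOf (j (z, 1)) = 2 ^ k)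
    (hC : Subgroup.centralizer ({j (z, 1)} : Set G) = L) {b₁ : Set (IrrCharacter X)} (hb₁ : IsPBlock 𝔐 b₁)
    {B : Set (IrrCharacter G)} (hind : IsInducedBlock 𝔐 L (prodBlk L j b₁ b₁) B) {D : Subgroup G}
    (hD : IsDefectGroup 2 𝔐 B D) (i : X) (hi : i ∈ Subgroup.center X) (hi4 : orderOf i = 4) : Sec 2 3 D := by
  classical
  have : Fact (Nat.Prime 2) := ⟨Nat.prime_two⟩
  obtain ⟨D₁, hD₁⟩ := H662.exists_defectGroup hM hb₁
  obtain ⟨g, h1, h2⟩ := wreath_defect hM L j hj hr t ht hswap z hz hC hb₁ hD₁ hind hD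
  -- `i ∈ D₁`
  have hiD : i ∈ D₁ := by
    refine (Cfsg.Agent.S0912.result 2 𝔐 hM b₁ hb₁ D₁ hD₁) ?_
    have hz : Subgroup.zpowers i ≤ pCore 2 X := by
      refine le_sSup ⟨⟨fun x hx y => ?_⟩, ?_⟩
      · have h3 : x ∈ Subgroup.center X := (Subgroup.zpowers_le.2 hi) hx
        rw [Subgroup.mem_center_iff.1 h3 y, mul_inv_cancel_right]
        exact hx
      · refine IsPGroup.of_card (n := 2) ?_
        rw [Nat.card_zpowers, hi4]
        norm_num
    exact hz (Subgroup.mem_zpowers i)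
  have htL : t ∉ j.range := by
    rintro ⟨⟨a, b⟩, rfl⟩
    have h3 := hswap i 1
    rw [← map_inv, ← map_mul, ← map_mul] at h3
    have h4 := congrArg Prod.snd (hj h3)
    have h5 : i = 1 := by simpa using h4.symm
    rw [h5, orderOf_one] at hi4
    omega
  have h3 := (sec_three_of ht hswap hj htL hi4).map (MulAut.conj g).toMonoidHom (MulAut.conj g).injective
  refine h3.mono ?_
  rintro _ ⟨x, hx, rfl⟩
  have hA : ∀ a ∈ (aPart i).map j, g * a * g⁻¹ ∈ D := by
    rintro _ ⟨_, ⟨k, l, rfl⟩, rfl⟩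
    exact h2 _ (D₁.zpow_mem hiD k) _ (D₁.zpow_mem hiD _)
  change g * x * g⁻¹ ∈ D
  rcases hx with hx | hx
  · exact hA x hx
  · have h4 := D.mul_mem (hA _ hx) h1
    have h5 : g * (x * t) * g⁻¹ * (g * t * g⁻¹) = g * x * g⁻¹ := by
      calc g * (x * t) * g⁻¹ * (g * t * g⁻¹) = g * x * (t * t) * g⁻¹ := by group
        _ = g * x * g⁻¹ := by rw [ht, mul_one]
    rwa [h5] at h4

/-- **WR3.** -/
theorem five_le {Y : Type*} [Group Y] [Finite Y] (j : Y × Y →* G) (hj : Function.Injective j)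
    {D₂ : Subgroup Y} (hD₂ : Sec 2 3 D₂) {D : Subgroup G} (hD : ∀ d ∈ D₂, ∀ d' ∈ D₂, j (d, d') ∈ D)
    (S : Subgroup G) [S.Normal] (hcyc : IsCyclic (G ⧸ S)) {s : ℕ}
    (hs : SectionalPRankLE 2 s (D ⊓ S : Subgroup G)) : 5 ≤ s := by
  have h1 : Sec 2 (5 + 1) D := by
    refine ((hD₂.prod hD₂).map j hj).mono ?_
    rintro _ ⟨⟨d, d'⟩, ⟨h, h'⟩, rfl⟩
    exact hD d h d' h'
  exact (h1.inf two_pos S hcyc).le one_lt_two hs

end

end Cfsg.Agent.H666.GU
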