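import Cfsg.Agent.H666.GU.Lin
import Cfsg.Agent.H623.GU.Tower
import Cfsg.Agent.H697.GW.DetPreg
import Cfsg.Agent.H521.GU.Compl

/-!
# The labels of the linear characters of `GU n F q` (S4537)

* `fU : GU n F q →* Kˣ`, the determinant in `K`: `fU_pow`, `fU_surj`, `ker_fU`;
* `guLin : LinData hR.rz (suS F n q)`;
* `index_suS` : the index of `suS F n q` is prime to `p` if `p` does not divide `q + 1`.
-/

set_option autoImplicit false
set_option linter.unusedSectionVars false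

open Cfsg Polynomial
open scoped ComplexConjugate MatrixGroups

namespace Cfsg.Agent.H666.GU

open Cfsg.Agent.H577.GLB Cfsg.Agent.H577.GLB.Std Cfsg.Agent.H614 Cfsg.Agent.H112.GLB
open Cfsg.Agent.H615.GU Cfsg.Agent.H421.GU Cfsg.Agent.H666.Clif Cfsg.Agent.H614.GU Cfsg.Agent.H623.GU

universe u v

variable {F : Type u} [Field F] {K : Type v} [Field K] [Algebra F K] {θ : K →*₀ ℂ} {q n N M p : ℕ} [NeZero M]

/-- the determinant on `GU n F q` in the large field -/
noncomputable def fU (F : Type u) [Field F] (K : Type v) [Field K] [Algebra F K] (n q : ℕ) : Cfsg.GU n F q →* Kˣ :=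
  (Units.map ((algebraMap F K : F →+* K) : F →* K)).comp (detU F n q)

theorem fU_coe (g : Cfsg.GU n F q) : ((fU F K n q g : Kˣ) : K) =
    algebraMap F K (Matrix.det ((g : GL (Fin n) F) : Matrix (Fin n) (Fin n) F)) := rfl

theorem ker_fU : suS F n q = (fU F K n q).ker := by
  ext g
  rw [mem_suS, MonoidHom.mem_ker]
  have hinj : Function.Injective (Units.map ((algebraMap F K : F →+* K) : F →* K)) :=
    Units.map_injective (algebraMap F K).injective
  constructor
  · intro h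
    show Units.map ((algebraMap F K : F →+* K) : F →* K) (Matrix.GeneralLinearGroup.det (g : GL (Fin n) F)) = 1
    rw [h, map_one]
  · intro h
    apply hinj
    rw [map_one]
    exact h

theorem fU_pow [Finite F] (hF : Nat.card F = q ^ 2) (hn0 : 0 < n) (g : Cfsg.GU n F q) :
    fU F K n q g ^ (-(q : ℤ) - 1) = 1 := by
  have := Fintype.ofFinite F
  have : NeZero n := ⟨hn0.ne'⟩
  have h1 := H321.Ker.det_GU (by rw [← Nat.card_eq_fintype_card]; exact hF) g.2
  have h2 : fU F K n q g ^ (q + 1) = 1 := by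
    have h3 := congrArg (Units.map ((algebraMap F K : F →+* K) : F →* K)) h1
    rw [map_pow, map_one] at h3
    exact h3
  have h4 : (-(q : ℤ) - 1) = -((q + 1 : ℕ) : ℤ) := by push_cast; ring
  rw [h4, zpow_neg, zpow_natCast, h2, inv_one]

/-- the determinants are the elements of norm one -/
theorem fU_surj [Finite F] [Finite K] (hF : Nat.card F = q ^ 2) (hn0 : 0 < n) (x : Kˣ)
    (hx : x ^ (-(q : ℤ) - 1) = 1) : ∃ g : Cfsg.GU n F q, fU F K n q g = x := by
  classical
  have : NeZero n := ⟨hn0.ne'⟩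
  have h4 : (-(q : ℤ) - 1) = -((q + 1 : ℕ) : ℤ) := by push_cast; ring
  rw [h4, zpow_neg, zpow_natCast, inv_eq_one] at hx
  -- the elements of norm one of `F`
  obtain ⟨g, hg⟩ := IsCyclic.exists_generator (α := Fˣ)
  have ho : orderOf g = q ^ 2 - 1 := by
    rw [orderOf_eq_card_of_forall_mem_zpowers hg, Nat.card_units, hF]
  have hq2 : 2 ≤ q := by
    have h1 : 2 ≤ Nat.card F := Finite.one_lt_card
    rw [hF] at h1
    nlinarith
  have hfac : q ^ 2 - 1 = (q + 1) * (q - 1) := by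
    obtain ⟨r, rfl⟩ : ∃ r, q = r + 1 := ⟨q - 1, by omega⟩
    have h5 : (r + 1) ^ 2 - 1 = r * r + 2 * r := by
      have h6 : (r + 1) ^ 2 = r * r + 2 * r + 1 := by ring
      omega
    rw [h5, Nat.add_sub_cancel]
    ring
  have hy0 : orderOf (g ^ (q - 1)) = q + 1 := by
    rw [orderOf_pow' g (by omega), ho, hfac, Nat.gcd_eq_right (Dvd.intro_left _ rfl)]
    exact Nat.mul_div_cancel _ (by omega)
  let y0 : Kˣ := Units.map ((algebraMap F K : F →+* K) : F →* K) (g ^ (q - 1))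
  have hinj : Function.Injective (Units.map ((algebraMap F K : F →+* K) : F →* K)) :=
    Units.map_injective (algebraMap F K).injective
  have hy : orderOf y0 = q + 1 := by rw [← hy0]; exact orderOf_injective _ hinj _
  have h5 : x ∈ Subgroup.zpowers y0 := by
    have h6 : IsPrimitiveRoot y0 (q + 1) := by rw [← hy]; exact IsPrimitiveRoot.orderOf y0
    have h7 : IsPrimitiveRoot (y0 : K) (q + 1) := IsPrimitiveRoot.coe_units_iff.2 h6
    have : NeZero (q + 1) := ⟨by omega⟩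
    obtain ⟨i, -, hi⟩ := h7.eq_pow_of_pow_eq_one (ξ := (x : K)) (by
      rw [← Units.val_pow_eq_pow_val, hx, Units.val_one])
    refine Subgroup.mem_zpowers_iff.2 ⟨i, ?_⟩
    apply Units.ext
    rw [zpow_natCast, Units.val_pow_eq_pow_val]
    exact hi
  obtain ⟨i, hi⟩ := Subgroup.mem_zpowers_iff.1 h5
  set δ : Fˣ := (g ^ (q - 1)) ^ i with hδ
  have hδ1 : δ ^ (q + 1) = 1 := by
    rw [hδ, ← zpow_natCast, ← zpow_mul, mul_comm, zpow_mul, zpow_natCast, ← hy0, pow_orderOf_eq_one, one_zpow]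
  refine ⟨⟨H321.Ker.dg n δ, H321.Ker.dg_mem_GU hδ1⟩, ?_⟩
  have h6 : detU F n q ⟨H321.Ker.dg n δ, H321.Ker.dg_mem_GU hδ1⟩ = δ := by
    apply Units.ext
    exact H321.Ker.det_dg δ
  show Units.map ((algebraMap F K : F →+* K) : F →* K) (detU F n q _) = x
  rw [h6, hδ, map_zpow]
  exact hi

theorem hom_le_genR {Q : ℤ} {M : ℕ} (n : ℕ) : ∀ x ∈ Hom Q M n, x ∈ GenR Q M := fun _ hx => hx.1

/-- the labels of the linear characters of `GU n F q` -/
noncomputable def guLin [Finite F] (hF : Nat.card F = q ^ 2) (h : CtxQ θ (-(q : ℤ)) M N) (hn : n ≤ N) (hn0 : 0 < n)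
    (hs : ∀ h : F[X], h.Monic → h.natDegree ≤ n → (h.map (algebraMap F K)).Splits)
    {T : TypeData (dOrb K (-(q : ℤ))) (-(q : ℤ)) (Cfsg.GU n F q) n} (hT : IsTypU q n T)
    (hR : RzHyp θ M p T) : LinData hR.rz (suS F n q) :=
  have := h.finK
  linData h (hn0.trans_le hn) (fU F K n q) (fU_pow hF hn0) (fU_surj hF hn0) (by
    intro a ha x hx
    funext g
    rw [RzHyp.rz_om_apply, RzHyp.rz_om_apply, fU_coe]
    rw [evR_twist h.card h.unit (fun v x => H531.GU.evR_X_mul θ _ M H521.GU.i2s v x) ha (hom_le_genR n x hx),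
      H697.GW.linT_eq_GU hs hT θ M a g]) (suS F n q) ker_fU

theorem guLin_ln [Finite F] (hF : Nat.card F = q ^ 2) (h : CtxQ θ (-(q : ℤ)) M N) (hn : n ≤ N) (hn0 : 0 < n)
    (hs : ∀ h : F[X], h.Monic → h.natDegree ≤ n → (h.map (algebraMap F K)).Splits)
    {T : TypeData (dOrb K (-(q : ℤ))) (-(q : ℤ)) (Cfsg.GU n F q) n} (hT : IsTypU q n T)
    (hR : RzHyp θ M p T) (a : ZMod M) (g : Cfsg.GU n F q) : (((guLin hF h hn hn0 hs hT hR).ln a g : ℂˣ) : ℂ) =
      θ (algebraMap F K (Matrix.det ((g : GL (Fin n) F) : Matrix (Fin n) (Fin n) F))) ^ expoZ (-(q : ℤ)) M 1 a :=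
  lnf_coe a g

/-- the index of `suS F n q` divides `q + 1` -/
theorem index_suS_dvd [Finite F] (hF : Nat.card F = q ^ 2) (h : CtxQ θ (-(q : ℤ)) M N) (hn0 : 0 < n) :
    (suS F n q).index ∣ q + 1 := by
  have h1 := index_dvd h (fU F K n q) (fU_pow hF hn0)
  rw [← ker_fU] at h1
  have h2 : (-(q : ℤ) - 1).natAbs = q + 1 := by omega
  rwa [h2] at h1

theorem index_suS_coprime [Finite F] (hp : p.Prime) (hF : Nat.card F = q ^ 2) (h : CtxQ θ (-(q : ℤ)) M N)
    (hn0 : 0 < n) (hne : ((-(q : ℤ) : ℤ) : ZMod p) ≠ 1) : ((suS F n q).index).Coprime p := by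
  refine Nat.Coprime.coprime_dvd_left (index_suS_dvd hF h hn0) ?_
  rw [Nat.coprime_comm, hp.coprime_iff_not_dvd]
  intro hd
  apply hne
  have h1 : ((q + 1 : ℕ) : ZMod p) = 0 := (ZMod.natCast_eq_zero_iff _ _).2 hd
  push_cast at h1 ⊢
  linear_combination -h1

end Cfsg.Agent.H666.GU
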