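import Cfsg.Agent.H666.GU.GuTower
import Cfsg.Agent.H577.GUX.Split
import Cfsg.Agent.H623.GU.Geo

/-!
# S4537: assembly

* `hc4U` : if `4` divides the index of `suS F n q` there are central elements of order `4` in `GU a F q`;
* `TLin` : the labels of the linear characters for a tower;
* `su_asm` : the final bound for `SU N F q` from the nonvanishing (`hNz`), the elementary abelian subgroups (`helab`),
  the splitting (`hsplit`) and the blocks of families (`hone`).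
-/

set_option autoImplicit false
set_option linter.unusedSectionVars false

open Cfsg Polynomial
open scoped ComplexConjugate MatrixGroups

namespace Cfsg.Agent.H666.GU

open Cfsg.Agent.H577.GLB Cfsg.Agent.H577.GLB.Std Cfsg.Agent.H614 Cfsg.Agent.H112.GLB
open Cfsg.Agent.H615.GU Cfsg.Agent.H421.GU Cfsg.Agent.H666.Clif Cfsg.Agent.H614.GU Cfsg.Agent.H623.GU
open Cfsg.Agent.H608.BlockRank Cfsg.Agent.Blocks.Local Cfsg.Agent.H614.GLn Cfsg.Agent.H577.GUX

universe u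

variable {F : Type u} [Field F] [Fintype F] {K : Type u} [Field K] [Algebra F K] {θ : K →*₀ ℂ} {q N M p : ℕ}

/-- a scalar of order four -/
theorem hc4U (C : Ctx F θ N M) (hF : Fintype.card F = q ^ 2) {n : ℕ} (hn0 : 0 < n) (h4 : 4 ∣ (suS F n q).index)
    {a : ℕ} (ha : 0 < a) : ∃ i ∈ Subgroup.center (Cfsg.GU a F q), orderOf i = 4 := by
  have hq1 : 4 ∣ q + 1 := by
    rcases Nat.eq_zero_or_pos M with hM | hM
    · exfalso
      have := C.finK
      have h1 := C.card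
      rw [hM] at h1
      exact (Nat.card_pos (α := Kˣ)).ne' h1
    · have : NeZero M := ⟨hM.ne'⟩
      exact h4.trans (index_suS_dvd (natCard_eq hF) (ctxU C hF) hn0)
  have : NeZero a := ⟨ha.ne'⟩
  obtain ⟨g, hg⟩ := IsCyclic.exists_generator (α := Fˣ)
  have ho : orderOf g = q ^ 2 - 1 := by
    rw [orderOf_eq_card_of_forall_mem_zpowers hg, Nat.card_units, natCard_eq hF]
  have hq2 : 2 ≤ q := by
    have h1 : 1 < Fintype.card F := Fintype.one_lt_card
    rw [hF] at h1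
    nlinarith
  have hfac : q ^ 2 - 1 = (q + 1) * (q - 1) := by
    obtain ⟨r, rfl⟩ : ∃ r, q = r + 1 := ⟨q - 1, by omega⟩
    have h6 : (r + 1) ^ 2 = r * r + 2 * r + 1 := by ring
    have h5 : (r + 1) ^ 2 - 1 = r * r + 2 * r := by omega
    rw [h5, Nat.add_sub_cancel]
    ring
  obtain ⟨e, he⟩ := hq1
  have he0 : 0 < e := by omega
  have hm0 : e * (q - 1) ≠ 0 := by
    have : 0 < q - 1 := by omega
    positivity
  have hord : orderOf (g ^ (e * (q - 1))) = 4 := by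
    have h1 : orderOf g = 4 * (e * (q - 1)) := by rw [ho, hfac, he]; ring
    rw [orderOf_pow' g hm0, h1, Nat.gcd_eq_right (Dvd.intro_left _ rfl)]
    exact Nat.mul_div_cancel _ (Nat.pos_of_ne_zero hm0)
  set c : Fˣ := g ^ (e * (q - 1)) with hc
  have hc1 : c ^ (q + 1) = 1 := by rw [he, pow_mul, ← hord, pow_orderOf_eq_one, one_pow]
  have hmem : H321.Ker.sc a c ∈ Cfsg.GU a F q := by
    refine H321.Ker.diag_mem_GU (d := fun _ => (c : F)) ?_ (fun _ => ?_)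
    · rw [H321.Ker.sc_coe, Matrix.smul_one_eq_diagonal]
    · exact H321.Ker.norm_iff.2 hc1
  refine ⟨⟨H321.Ker.sc a c, hmem⟩, ?_, ?_⟩
  · rw [Subgroup.mem_center_iff]
    intro x
    apply Subtype.ext
    exact (H321.Ker.sc_comm c (x : GL (Fin a) F)).symm
  · rw [← Subgroup.orderOf_coe]
    have hinj : Function.Injective (Units.map (Matrix.scalar (Fin a) : F →+* Matrix (Fin a) (Fin a) F).toMonoidHom) := by
      refine Units.map_injective ?_
      have : Nonempty (Fin a) := ⟨⟨0, ha⟩⟩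
      intro x y hxy
      exact Matrix.scalar_inj.1 hxy
    exact (orderOf_injective _ hinj c).trans hord

variable [NeZero M]

/-- the labels of the linear characters for a tower -/
noncomputable def TLin (C : Ctx F θ N M) (hF : Fintype.card F = q ^ 2)
    (t : Tow θ (-(q : ℤ)) M N p (fun n => Cfsg.GU n F q)) (ht : ∀ n (hn : n ≤ N), IsTypU q n (t.T n hn))
    {n : ℕ} (hn : n ≤ N) (hn0 : 0 < n) : LinData (t.R n hn) (suS F n q) :=
  guLin (natCard_eq hF) (ctxU C hF) hn hn0 (splU C hn) (ht n hn) (t.hyp n hn)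

/-- **The final bound for `SU N F q`.** -/
theorem su_asm (C : Ctx F θ N M) (hF : Fintype.card F = q ^ 2) (hpF : p ≠ ringChar F) (hN0 : 0 < N)
    (t : Tow θ (-(q : ℤ)) M N p (fun n => Cfsg.GU n F q)) (ht : ∀ n (hn : n ≤ N), IsTypU q n (t.T n hn))
    {𝔐 : Ideal AlgInt} (h𝔐 : IsPModular p 𝔐) [𝔐.IsPrime]
    (hNz : ∀ {B : Set (IrrCharacter (Cfsg.GU N F q))}, IsPBlock 𝔐 B → ∀ {χ : IrrCharacter (Cfsg.GU N F q)},
      χ ∈ B → ∀ {l : LabZ (-(q : ℤ)) M N N}, (t.R N (le_refl N)).IsLb χ l → POnly M p l.t →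
      ∀ a : ZMod M, SF (-(q : ℤ)) M p l a → ∃ x : Cfsg.GU N F q,
        H624.Sl.Nz 𝔐 ((TLin C hF t ht (le_refl N) hN0).ln a) B x)
    (helab : ∀ {B : Set (IrrCharacter (Cfsg.GU N F q))}, IsPBlock 𝔐 B → ∀ {χ : IrrCharacter (Cfsg.GU N F q)},
      χ ∈ B → ∀ {l : LabZ (-(q : ℤ)) M N N}, (t.R N (le_refl N)).IsLb χ l → POnly M p l.t →
      ∀ D : Subgroup (Cfsg.GU N F q), IsDefectGroup p 𝔐 B D → ∃ A : Subgroup (Cfsg.GU N F q), A ≤ D ∧
        (∀ x ∈ A, ∀ y ∈ A, x * y = y * x) ∧ (∀ x ∈ A, x ^ p = 1) ∧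
        Nat.card A = p ^ totW (-(q : ℤ)) M p l.t)
    (hone : p = 2 → ∀ {n : ℕ} (hn : n ≤ N), 0 < n → ∀ {B : Set (IrrCharacter (Cfsg.GU n F q))}, IsPBlock 𝔐 B →
      ∀ {χ : IrrCharacter (Cfsg.GU n F q)}, χ ∈ B → ∀ {l : LabZ (-(q : ℤ)) M N n}, (t.R n hn).IsLb χ l →
      ∀ (ψ : IrrCharacter (Cfsg.GU n F q)) (l' : LabZ (-(q : ℤ)) M N n), (t.R n hn).IsLb ψ l' →
      SameFam (-(q : ℤ)) M p l.t l'.t → ψ ∈ B)
    (hsplit : ∀ (hp2 : p = 2), SplitTower (Q := -(q : ℤ)) (M := M) (𝒢 := fun n => Cfsg.GU n F q)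
      (fun {n} (hn : n ≤ N) => (hp2 ▸ t.R n hn : Rz (-(q : ℤ)) M 2 n (Cfsg.GU n F q))) (fun n => suS F n q) 𝔐 N)
    (B : Set (IrrCharacter (Cfsg.SU N F q))) (hB : IsPBlock 𝔐 B) (D : Subgroup (Cfsg.SU N F q))
    (hD : IsDefectGroup p 𝔐 B D) (s : ℕ) (hs : SectionalPRankLE p s D) : blockRank p B ≤ p ^ s := by
  have := C.finK
  refine su_of_suS (fun B' hB' D' hD' s hs => ?_) B hB D hD s hs
  refine suS_of (natCard_eq hF) hpF (ctxU C hF) (le_refl N) hN0 (splU C (le_refl N)) (ht N (le_refl N))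
    (t.hyp N (le_refl N)) h𝔐 (t.bij N N (le_refl N) (le_refl N)) hNz helab ?_ B' hB' D' hD' s hs
  intro B hB B' hB' hcov χ hχ l hl hl' hp2 hQ δ₀ h₁ hw D' hD' s hs
  subst hp2
  exact exc_tower (ℛ := fun {n} (hn : n ≤ N) => t.R n hn) (𝒮 := fun n => suS F n q)
    (fun n _ => isCyclic_quot) (fun {n} hn hn0 => TLin C hF t ht hn hn0) h𝔐 hQ
    (fun {n} hn hm => t.bij n N hn hm) (fun {n} hn hn0 hm {B} hB {χ} hχ {l} hl => hone rfl hn hn0 hB hχ hl)
    (fun n hn0 h4 a ha => hc4U C hF hn0 h4 ha) (hsplit rfl) (le_refl N) hN0 (le_refl N) hB hB' hcov hχ hl hl' δ₀ h₁ hw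
    (fun a ha => hNz hB hχ hl hl' a ha) (helab hB hχ hl hl') hD' hs

end Cfsg.Agent.H666.GU
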