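import Cfsg.Agent.H666.Clif.GL

/-!
# The descent to a normal subgroup with cyclic quotient, abstract version (S4537)

`Rz.blockRank_le` : `R : Rz Q M p n G`, `L : LinData R S`, `G / S` cyclic; the abstract version of `blockRank_le_slS`.
-/

set_option autoImplicit false
set_option linter.unusedSectionVars false

open Cfsg
open scoped ComplexConjugate MatrixGroups

namespace Cfsg.Agent.H666.Clif

open Cfsg.Agent.H577.GLB Cfsg.Agent.H577.GLB.Std Cfsg.Agent.H614 Cfsg.Agent.H112.GLB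
open Cfsg.Agent.H657 Cfsg.Agent.H608.BlockRank Cfsg.Agent.Blocks.Basic Cfsg.Agent.Blocks.Local
open Cfsg.Agent.H577.GLB.Rank

universe u

section rank

variable {G : Type u} [Group G] [Finite G] {p : ℕ} {𝔐 : Ideal AlgInt}

/-- a subgroup of order dividing `p` in a group of order prime to `p` is trivial -/
theorem card_one_of_coprime {C : Type*} [Group C] [Finite C] (hp : p.Prime) (A : Subgroup C)
    (h1 : Nat.card A ∣ p) (h2 : (Nat.card C).Coprime p) : Nat.card A = 1 := by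
  rcases (Nat.dvd_prime hp).1 h1 with h | h
  · exact h
  · exfalso
    have h3 : p ∣ Nat.card C := h ▸ Subgroup.card_subgroup_dvd_card A
    exact hp.one_lt.ne' (Nat.eq_one_of_dvd_coprimes h2 h3 (dvd_refl p))

theorem card_dvd_of_cyclic {C : Type*} [Group C] [Finite C] (hC : IsCyclic C) (A : Subgroup C)
    (hA : ∀ x ∈ A, x ^ p = 1) : Nat.card A ∣ p := by
  have : IsCyclic A := Subgroup.isCyclic A
  obtain ⟨g, hg⟩ := IsCyclic.exists_generator (α := A)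
  rw [← orderOf_eq_card_of_forall_mem_zpowers hg]
  refine orderOf_dvd_of_pow_eq_one ?_
  apply Subtype.ext
  exact hA g g.2

/-- **The weight and the rank**, abstract version. -/
theorem weight_le_abs (hM : IsPModular p 𝔐) (S : Subgroup G) [S.Normal] (hcyc : IsCyclic (G ⧸ S))
    {B : Set (IrrCharacter G)} (hB : IsPBlock 𝔐 B)
    {B' : Set (IrrCharacter S)} (hB' : IsPBlock 𝔐 B') (hcov : Cov S B B')
    (D' : Subgroup S) (hD' : IsDefectGroup p 𝔐 B' D') {s : ℕ} (hs : SectionalPRankLE p s D') {W : ℕ}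
    (hW : ∀ D : Subgroup G, IsDefectGroup p 𝔐 B D → ∃ A : Subgroup G, A ≤ D ∧
      (∀ x ∈ A, ∀ y ∈ A, x * y = y * x) ∧ (∀ x ∈ A, x ^ p = 1) ∧ Nat.card A = p ^ W) :
    W ≤ s + 1 ∧ ((S.index).Coprime p → W ≤ s) := by
  have hp := hM.1
  obtain ⟨P, hP, hPS⟩ := exists_inf hM S hB hB' hcov D' hD'
  obtain ⟨A, hAP, hcomm, hexp, hcard⟩ := hW P hP
  set f : G →* G ⧸ S := QuotientGroup.mk' S with hf
  have h1 := card_le_inf f A
  have hker : f.ker = S := QuotientGroup.ker_mk' S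
  have hsP : SectionalPRankLE p s (P ⊓ S : Subgroup G) := by
    rw [hPS]
    exact H583.SecRank.sectional_of_mulEquiv hs (D'.equivMapOfInjective _ S.subtype_injective)
  have hle : A ⊓ f.ker ≤ P ⊓ S := inf_le_inf hAP (le_of_eq hker)
  have h2 : Nat.card (A ⊓ f.ker : Subgroup G) ≤ p ^ s := by
    have h3 := H583.SecRank.pRankLE hsP ((A ⊓ f.ker).subgroupOf (P ⊓ S)) ⟨⟨by
      rintro ⟨⟨x, hx⟩, hx'⟩ ⟨⟨y, hy⟩, hy'⟩
      apply Subtype.ext
      apply Subtype.ext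
      exact hcomm x hx'.1 y hy'.1⟩⟩ (by
      rintro ⟨x, hx⟩ hx'
      apply Subtype.ext
      exact hexp x hx'.1)
    rwa [Nat.card_congr (Subgroup.subgroupOfEquivOfLe hle).toEquiv] at h3
  have hexp' : ∀ y ∈ A.map f, y ^ p = 1 := by
    rintro _ ⟨x, hx, rfl⟩
    rw [← map_pow, hexp x hx, map_one]
  have h3 := card_dvd_of_cyclic hcyc (A.map f) hexp'
  constructor
  · have h4 := Nat.le_of_dvd hp.pos h3
    rw [hcard] at h1
    have h5 : p ^ W ≤ p ^ (s + 1) := by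
      rw [h1, pow_succ]
      exact Nat.mul_le_mul h2 h4
    exact (Nat.pow_le_pow_iff_right hp.one_lt).1 h5
  · intro hq
    have h4 := card_one_of_coprime hp (A.map f) h3 hq
    rw [hcard, h4, mul_one] at h1
    exact (Nat.pow_le_pow_iff_right hp.one_lt).1 (h1 ▸ h2)

end rank

section

variable {Q : ℤ} {M : ℕ} [NeZero M] {p n : ℕ} {G : Type u} [Group G] [Finite G] {R : Rz Q M p n G} {S : Subgroup G}

/-- **The descent**, from the nonvanishing of the chain, the elementary abelian subgroups of the defect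
groups and the exceptional case. -/
theorem LinData.blockRank_le (L : LinData R S) {𝔐 : Ideal AlgInt} (h𝔐 : IsPModular p 𝔐) [𝔐.IsPrime] [S.Normal]
    (hcyc : IsCyclic (G ⧸ S)) (hQp : IsUnit (Q : ZMod p)) (hidx : (Q : ZMod p) ≠ 1 → (S.index).Coprime p)
    (hn0 : 0 < n) {m : ℕ} (hm : n ≤ m) (hlab : R.Bij m)
    (hNz : ∀ {B : Set (IrrCharacter G)}, IsPBlock 𝔐 B → ∀ {χ : IrrCharacter G},
      χ ∈ B → ∀ {t : LabZ Q M m n}, R.IsLb χ t → POnly M p t.t →
      ∀ a : ZMod M, SF Q M p t a → ∃ x : G, H624.Sl.Nz 𝔐 (L.ln a) B x)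
    (helab : ∀ {B : Set (IrrCharacter G)}, IsPBlock 𝔐 B → ∀ {χ : IrrCharacter G},
      χ ∈ B → ∀ {t : LabZ Q M m n}, R.IsLb χ t → POnly M p t.t →
      ∀ D : Subgroup G, IsDefectGroup p 𝔐 B D → ∃ A : Subgroup G, A ≤ D ∧
        (∀ x ∈ A, ∀ y ∈ A, x * y = y * x) ∧ (∀ x ∈ A, x ^ p = 1) ∧
        Nat.card A = p ^ totW Q M p t.t)
    (hexc : ∀ {B : Set (IrrCharacter G)}, IsPBlock 𝔐 B →
      ∀ {B' : Set (IrrCharacter S)}, IsPBlock 𝔐 B' → Cov S B B' →
      ∀ {χ : IrrCharacter G}, χ ∈ B → ∀ {t : LabZ Q M m n}, R.IsLb χ t →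
      POnly M p t.t → p = 2 → (Q : ZMod p) = 1 → ∀ δ₀ : ZMod M, (∀ δ, 0 < Std.bsz (t.t δ) → SameZ Q M δ₀ δ) →
      (Std.bsz (t.t δ₀) = 2 ∨ Std.bsz (t.t δ₀) = 4 ∨ Std.bsz (t.t δ₀) = 8) →
      ∀ D' : Subgroup S, IsDefectGroup p 𝔐 B' D' → ∀ s : ℕ, SectionalPRankLE p s D' →
      blockRank p B' ≤ p ^ s)
    {B' : Set (IrrCharacter S)} (hB' : IsPBlock 𝔐 B') {D' : Subgroup S}
    (hD' : IsDefectGroup p 𝔐 B' D') {s : ℕ} (hs : SectionalPRankLE p s D') : blockRank p B' ≤ p ^ s := by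
  classical
  have hp := h𝔐.1
  obtain ⟨V, hV⟩ := exists_above h𝔐
  obtain ⟨B, hB, hcov⟩ := exists_cov h𝔐 S hB'
  obtain ⟨χ, hχ, t, ht, ht'⟩ := R.exists_pOnly_mem' h𝔐 hm hlab hB
  have hQ : IsUnit (Q : ZMod M) := R.unit
  have hgen := exists_SF_gen hQ t ht'
  have hNz' := fun a ha => hNz hB hχ ht ht' a ha
  have hW := weight_le_abs h𝔐 S hcyc hB hB' hcov D' hD' hs
    (fun D hD => helab hB hχ ht ht' D hD)
  by_cases h1 : (Q : ZMod p) = 1
  · by_cases hex : p = 2 ∧ ∃ δ0, (∀ δ, 0 < Std.bsz (t.t δ) → SameZ Q M δ0 δ) ∧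
      (Std.bsz (t.t δ0) = 2 ∨ Std.bsz (t.t δ0) = 4 ∨ Std.bsz (t.t δ0) = 8)
    · obtain ⟨hp2, δ0, h2, h3⟩ := hex
      exact hexc hB hB' hcov hχ ht ht' hp2 h1 δ0 h2 h3 D' hD' s hs
    · have h2 := L.mul_blockRank_le_of_one h𝔐 hV hcyc h1 hn0 hm hlab hB hB'
        hcov hχ ht ht' hgen hNz' hex
      have h3 : p * blockRank p B' ≤ p * p ^ s := by
        rw [← pow_succ']
        exact h2.trans (Nat.pow_le_pow_right hp.pos hW.1)
      exact Nat.le_of_mul_le_mul_left h3 hp.pos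
  · have h2 := L.blockRank_le_of_coprime h𝔐 hV hcyc (hidx h1) hQp hm hlab hB hB'
      hcov hχ ht ht' hgen hNz'
    exact h2.trans (Nat.pow_le_pow_right hp.pos (hW.2 (hidx h1)))

end

end Cfsg.Agent.H666.Clif
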