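import Cfsg.Agent.H666.GU.GuLin
import Cfsg.Agent.H666.GU.Desc

/-!
# S4537: the block rank of `SU n F q` from the chain, the elementary abelian subgroups and the exceptional cases
-/

set_option autoImplicit false
set_option linter.unusedSectionVars false

open Cfsg Polynomial
open scoped ComplexConjugate MatrixGroups

namespace Cfsg.Agent.H666.GU

open Cfsg.Agent.H577.GLB Cfsg.Agent.H577.GLB.Std Cfsg.Agent.H614 Cfsg.Agent.H112.GLB
open Cfsg.Agent.H615.GU Cfsg.Agent.H421.GU Cfsg.Agent.H666.Clif Cfsg.Agent.H614.GU Cfsg.Agent.H623.GU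
open Cfsg.Agent.H608.BlockRank Cfsg.Agent.Blocks.Local

universe u v

variable {F : Type u} [Field F] {K : Type v} [Field K] [Algebra F K] {θ : K →*₀ ℂ} {q n N M p : ℕ} [NeZero M]

theorem coprime_q [Finite F] (hF : Nat.card F = q ^ 2) (hp : p.Prime) (hpF : p ≠ ringChar F) : q.Coprime p := by
  obtain ⟨r, hr⟩ := CharP.exists F
  have hrp : r.Prime := by
    rcases CharP.char_is_prime_or_zero F r with h | h
    · exact h
    · exfalso
      subst h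
      have : CharZero F := CharP.charP_to_charZero F
      exact not_finite F
  have : Fact r.Prime := ⟨hrp⟩
  have := Fintype.ofFinite F
  obtain ⟨k, -, hk⟩ := FiniteField.card F r
  have h1 : q ^ 2 = r ^ (k : ℕ) := by rw [← hF, Nat.card_eq_fintype_card, hk]
  have h2 : (q ^ 2).Coprime p := by
    rw [h1]
    refine Nat.Coprime.pow_left _ ((Nat.coprime_primes hrp hp).2 ?_)
    intro hrp'
    apply hpF
    rw [← hrp']
    exact (ringChar.eq F r).symm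
  exact Nat.Coprime.coprime_dvd_left (dvd_pow_self q two_ne_zero) h2

theorem isUnit_Q [Finite F] (hF : Nat.card F = q ^ 2) (hp : p.Prime) (hpF : p ≠ ringChar F) :
    IsUnit ((-(q : ℤ) : ℤ) : ZMod p) := by
  have h1 : IsUnit ((q : ℕ) : ZMod p) := (ZMod.isUnit_iff_coprime q p).2 (coprime_q hF hp hpF)
  push_cast
  exact h1.neg

/-- **S4537 from the chain (`hNz`), the elementary abelian subgroups (`helab`) and the exceptional case (`hexc`).** -/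
theorem suS_of [Finite F] (hF : Nat.card F = q ^ 2) (hpF : p ≠ ringChar F) (h : CtxQ θ (-(q : ℤ)) M N)
    (hn : n ≤ N) (hn0 : 0 < n)
    (hs : ∀ h : F[X], h.Monic → h.natDegree ≤ n → (h.map (algebraMap F K)).Splits)
    {T : TypeData (dOrb K (-(q : ℤ))) (-(q : ℤ)) (Cfsg.GU n F q) n} (hT : IsTypU q n T)
    (hR : RzHyp θ M p T) {𝔐 : Ideal AlgInt} (h𝔐 : IsPModular p 𝔐) [𝔐.IsPrime] (hlab : hR.rz.Bij n)
    (hNz : ∀ {B : Set (IrrCharacter (Cfsg.GU n F q))}, IsPBlock 𝔐 B → ∀ {χ : IrrCharacter (Cfsg.GU n F q)},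
      χ ∈ B → ∀ {t : LabZ (-(q : ℤ)) M n n}, hR.rz.IsLb χ t → POnly M p t.t →
      ∀ a : ZMod M, SF (-(q : ℤ)) M p t a → ∃ x : Cfsg.GU n F q,
        H624.Sl.Nz 𝔐 ((guLin hF h hn hn0 hs hT hR).ln a) B x)
    (helab : ∀ {B : Set (IrrCharacter (Cfsg.GU n F q))}, IsPBlock 𝔐 B → ∀ {χ : IrrCharacter (Cfsg.GU n F q)},
      χ ∈ B → ∀ {t : LabZ (-(q : ℤ)) M n n}, hR.rz.IsLb χ t → POnly M p t.t →
      ∀ D : Subgroup (Cfsg.GU n F q), IsDefectGroup p 𝔐 B D → ∃ A : Subgroup (Cfsg.GU n F q), A ≤ D ∧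
        (∀ x ∈ A, ∀ y ∈ A, x * y = y * x) ∧ (∀ x ∈ A, x ^ p = 1) ∧
        Nat.card A = p ^ totW (-(q : ℤ)) M p t.t)
    (hexc : ∀ {B : Set (IrrCharacter (Cfsg.GU n F q))}, IsPBlock 𝔐 B →
      ∀ {B' : Set (IrrCharacter (suS F n q))}, IsPBlock 𝔐 B' → Cov (suS F n q) B B' →
      ∀ {χ : IrrCharacter (Cfsg.GU n F q)}, χ ∈ B → ∀ {t : LabZ (-(q : ℤ)) M n n}, hR.rz.IsLb χ t →
      POnly M p t.t → p = 2 → ((-(q : ℤ) : ℤ) : ZMod p) = 1 → ∀ δ₀ : ZMod M,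
      (∀ δ, 0 < Std.bsz (t.t δ) → SameZ (-(q : ℤ)) M δ₀ δ) →
      (Std.bsz (t.t δ₀) = 2 ∨ Std.bsz (t.t δ₀) = 4 ∨ Std.bsz (t.t δ₀) = 8) →
      ∀ D' : Subgroup (suS F n q), IsDefectGroup p 𝔐 B' D' → ∀ s : ℕ, SectionalPRankLE p s D' →
      blockRank p B' ≤ p ^ s)
    (B' : Set (IrrCharacter (suS F n q))) (hB' : IsPBlock 𝔐 B') (D' : Subgroup (suS F n q))
    (hD' : IsDefectGroup p 𝔐 B' D') (s : ℕ) (hs' : SectionalPRankLE p s D') : blockRank p B' ≤ p ^ s := by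

  exact (guLin hF h hn hn0 hs hT hR).blockRank_le h𝔐 isCyclic_quot (isUnit_Q hF h𝔐.1 hpF)
    (index_suS_coprime h𝔐.1 hF h hn0) hn0 (le_refl n) hlab hNz helab hexc hB' hD' hs'

end Cfsg.Agent.H666.GU
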