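import Cfsg.Agent.H666.GU.PlugB
import Cfsg.Agent.H623.GU.GeoAll
import Cfsg.Agent.H624.SlU.HNz

/-!
# S4537: the last step

* `elabU` : elementary abelian subgroups of the defect groups of `GU n F q`;
* `su_final` : the bound for `SU N F q`.
-/

set_option autoImplicit false
set_option linter.unusedSectionVars false

open Cfsg
open scoped ComplexConjugate TensorProduct MatrixGroups

namespace Cfsg.Agent.H666.GU

open Cfsg.Agent.H577.GLB.Std Cfsg.Agent.H614 Cfsg.Agent.H614.GLn Cfsg.Agent.H615.GU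
open Cfsg.Agent.H112.GLB Cfsg.Agent.H608.BlockRank Cfsg.Agent.H624.Sl Cfsg.Agent.H166.GUC Cfsg.Agent.H623.GU
open Cfsg.Agent.Blocks.Local Cfsg.Agent.Blocks.Basic

universe u

variable {F : Type u} [Field F] [Fintype F] {K : Type u} [Field K] [Algebra F K] {θ : K →*₀ ℂ} {q N M p : ℕ} [NeZero M]
  {𝔐 : Ideal AlgInt} [𝔐.IsPrime]

/-- elementary abelian subgroups of the defect groups -/
theorem elabU (h𝔐 : IsPModular p 𝔐) (C : Ctx F θ N M) (hF : Fintype.card F = q ^ 2) (hpF : (p : F) ≠ 0)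
    (t : Tow θ (-(q : ℤ)) M N p (fun n => GU n F q)) (ht : ∀ n (hn : n ≤ N), IsTypU q n (t.T n hn)) {n m : ℕ}
    (hn : n ≤ N) (hm : n ≤ m) {B : Set (IrrCharacter (GU n F q))} (hB : IsPBlock 𝔐 B)
    {χ : IrrCharacter (GU n F q)} (hχ : χ ∈ B) {l : LabZ (-(q : ℤ)) M m n} (hl : (t.R n hn).IsLb χ l)
    (hl' : POnly M p l.t) (D : Subgroup (GU n F q)) (hD : IsDefectGroup p 𝔐 B D) :
    ∃ A : Subgroup (GU n F q), A ≤ D ∧ (∀ x ∈ A, ∀ y ∈ A, x * y = y * x) ∧ (∀ x ∈ A, x ^ p = 1) ∧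
      Nat.card A = p ^ totW (-(q : ℤ)) M p l.t := by
  have hp : p.Prime := h𝔐.1
  have := C.finK
  have ctx : CtxQ θ (-(q : ℤ)) M N := ctxU C hF
  have ha1 : TorZ (-(q : ℤ)) M 1 (0 : ZMod M) := by rw [TorZ, mul_zero]
  have ha2 : PReg M p (0 : ZMod M) := by rw [PReg, addOrderOf_zero]; exact Nat.coprime_one_left p
  exact exists_elab ctx.unit (isUnit_neg_q hF hp hpF) (fun n m hn hm => t.bij n m hn hm) (fun n hn => t.gr n hn)
    (geoAll_gu h𝔐 C hF hpF t ht ha1 ha2).geo h𝔐 hn hm hB hχ hl hl' D hD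

/-- **The block rank of `SU N F q`.** -/
theorem su_final (h𝔐 : IsPModular p 𝔐) (C : Ctx F θ N M) (hF : Fintype.card F = q ^ 2) (hpF : p ≠ ringChar F)
    (hN0 : 0 < N) (B : Set (IrrCharacter (Cfsg.SU N F q))) (hB : IsPBlock 𝔐 B) (D : Subgroup (Cfsg.SU N F q))
    (hD : IsDefectGroup p 𝔐 B D) (s : ℕ) (hs : SectionalPRankLE p s D) : blockRank p B ≤ p ^ s := by
  have hp : p.Prime := h𝔐.1
  have hpF' := cast_ne_zero_of (F := F) hp hpF
  have ht := towGU_typ C hF hp hpF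
  exact su_plug C hF hpF hN0 (towGU C hF hp hpF) ht h𝔐
    (H624.SlU.hNz_of C hF hpF hN0 (towGU C hF hp hpF) ht h𝔐 fun a h1 h2 => geoAll_gu h𝔐 C hF hpF' _ ht h1 h2)
    (fun {B} hB {χ} hχ {l} hl hl' D hD => elabU h𝔐 C hF hpF' _ ht le_rfl le_rfl hB hχ hl hl' D hD) B hB D hD s hs

end Cfsg.Agent.H666.GU
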