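import Cfsg.Agent.H421.GU.Twist
import Cfsg.Agent.H614.GU.Trn
import Cfsg.Agent.H321.Ker.Unit
import Cfsg.Agent.H666.Clif.Sec
import Cfsg.Agent.H666.Clif.Lin

/-!
# The labels of the linear characters, abstract version and `GU n F q` (S4537)

* `lnf θ Q M f a : G →* ℂˣ`, `g ↦ θ (f g) ^ expoZ Q M 1 a`;
* `linData` : `LinData R f.ker` if `f` maps `G` onto `{x | x ^ (Q - 1) = 1}`;
* `fU`, `guLin` : the case of `GU n F q`, `Q = -q`.
-/

set_option autoImplicit false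
set_option linter.unusedSectionVars false

open Cfsg
open scoped ComplexConjugate MatrixGroups

namespace Cfsg.Agent.H666.GU

open Cfsg.Agent.H577.GLB Cfsg.Agent.H577.GLB.Std Cfsg.Agent.H614 Cfsg.Agent.H112.GLB
open Cfsg.Agent.H615.GU Cfsg.Agent.H421.GU Cfsg.Agent.H666.Clif

universe u v

section abs

variable {K : Type v} [Field K] {θ : K →*₀ ℂ} {Q : ℤ} {M : ℕ} {N : ℕ}
variable {G : Type u} [Group G] {f : G →* Kˣ}

/-- the linear character with label `a` -/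
noncomputable def lnf (θ : K →*₀ ℂ) (Q : ℤ) (M : ℕ) (f : G →* Kˣ) (a : ZMod M) : G →* ℂˣ :=
  ((Units.map (θ : K →* ℂ)).comp f) ^ (expoZ Q M 1 a)

theorem lnf_apply (a : ZMod M) (g : G) : lnf θ Q M f a g = Units.map (θ : K →* ℂ) (f g ^ expoZ Q M 1 a) := by
  rw [map_zpow]
  rfl

theorem lnf_coe (a : ZMod M) (g : G) : ((lnf θ Q M f a g : ℂˣ) : ℂ) = θ ((f g : Kˣ) : K) ^ expoZ Q M 1 a := by
  rw [lnf_apply, th_zpow]
  rfl

theorem expoZ_zero [NeZero M] : expoZ Q M 1 (0 : ZMod M) = 0 := by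
  simp [expoZ]

variable [NeZero M] (h : CtxQ θ Q M N) (hN : 1 ≤ N) (hf : ∀ g : G, f g ^ (Q - 1) = 1)

include hf in
theorem hf' (g : G) : f g ^ (Q ^ 1) = f g := by
  have h1 := hf g
  rw [zpow_sub, zpow_one, mul_inv_eq_one] at h1
  rw [pow_one]
  exact h1

include hf in
theorem lnf_add {a b : ZMod M} (ha : TorZ Q M 1 a) (hb : TorZ Q M 1 b) :
    lnf θ Q M f (a + b) = lnf θ Q M f a * lnf θ Q M f b := by
  ext g
  rw [MonoidHom.mul_apply, lnf_apply, lnf_apply, lnf_apply, pow_expoZ_add (hf' hf g) ha hb, map_mul]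

theorem lnf_zero : lnf θ Q M f (0 : ZMod M) = 1 := by
  ext g
  rw [lnf_apply, expoZ_zero, zpow_zero, map_one, MonoidHom.one_apply]

theorem torZ_zero : TorZ Q M 1 (0 : ZMod M) := by rw [TorZ, mul_zero]

theorem torZ_nsmul' {a : ZMod M} (ha : TorZ Q M 1 a) (k : ℕ) : TorZ Q M 1 (k • a) := by
  rw [TorZ] at ha ⊢
  rw [nsmul_eq_mul, mul_left_comm, ha, mul_zero]

include hf in
theorem lnf_nsmul {a : ZMod M} (ha : TorZ Q M 1 a) (k : ℕ) : lnf θ Q M f (k • a) = lnf θ Q M f a ^ k := by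
  induction k with
  | zero => rw [zero_smul, lnf_zero, hom_pow_zero]
  | succ k ih => rw [succ_nsmul, lnf_add hf (torZ_nsmul' ha k) ha, ih, hom_pow_succ]

include h

theorem Q_sub_ne : Q - 1 ≠ 0 := by
  have h2 := h.two
  intro h0
  have h1 : Q = 1 := by omega
  rw [h1] at h2
  norm_num at h2

include hN in
theorem dvd_one : (Q - 1) ∣ (M : ℤ) := by
  have h1 := h.dvd 1 one_pos hN
  rwa [pow_one] at h1

include hN in
/-- a generator of the group of the `x` with `x ^ (Q - 1) = 1` -/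
theorem exists_x0 : ∃ x0 : Kˣ, orderOf x0 = (Q - 1).natAbs ∧ ∀ x : Kˣ, x ^ (Q - 1) = 1 → x ∈ Subgroup.zpowers x0 := by
  have := h.finK
  obtain ⟨g, hg⟩ := IsCyclic.exists_generator (α := Kˣ)
  have ho : orderOf g = M := by rw [orderOf_eq_card_of_forall_mem_zpowers hg, h.card]
  obtain ⟨d, hd⟩ := dvd_one h hN
  have hM0 : M ≠ 0 := NeZero.ne M
  have hr0 : (Q - 1).natAbs ≠ 0 := by
    rw [Int.natAbs_ne_zero]
    exact Q_sub_ne h
  have hMr : M = (Q - 1).natAbs * d.natAbs := by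
    rw [← Int.natAbs_mul, ← hd, Int.natAbs_natCast]
  have hd0 : d.natAbs ≠ 0 := by
    intro h0
    rw [h0, mul_zero] at hMr
    exact hM0 hMr
  refine ⟨g ^ d.natAbs, ?_, ?_⟩
  · rw [orderOf_pow' g hd0, ho]
    rw [Nat.gcd_eq_right ⟨_, by rw [mul_comm]; exact hMr⟩]
    exact Nat.div_eq_of_eq_mul_left (Nat.pos_of_ne_zero hd0) hMr
  · intro x hx
    obtain ⟨i, hi⟩ := Subgroup.mem_zpowers_iff.1 (hg x)
    have h1 : g ^ (i * (Q - 1)) = 1 := by rw [zpow_mul, hi, hx]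
    have h2 : ((orderOf g : ℕ) : ℤ) ∣ i * (Q - 1) := orderOf_dvd_iff_zpow_eq_one.2 h1
    rw [ho, hd, mul_comm] at h2
    have h3 : d ∣ i := by
      obtain ⟨t, ht⟩ := h2
      refine ⟨t, ?_⟩
      have h4 := Q_sub_ne h
      have h5 : i * (Q - 1) = (d * t) * (Q - 1) := by rw [ht]; ring
      exact mul_right_cancel₀ h4 h5
    obtain ⟨t, ht⟩ := h3
    have h4 : ∃ e : ℤ, d = (d.natAbs : ℤ) * e := by
      rcases Int.natAbs_eq d with h5 | h5
      · exact ⟨1, by omega⟩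
      · exact ⟨-1, by omega⟩
    obtain ⟨e, he⟩ := h4
    refine Subgroup.mem_zpowers_iff.2 ⟨e * t, ?_⟩
    rw [← hi, ← zpow_natCast, ← zpow_mul, ht]
    congr 1
    rw [← mul_assoc, ← he]

include hN hf in
theorem lnf_eq_one (hsurj : ∀ x : Kˣ, x ^ (Q - 1) = 1 → ∃ g, f g = x) {a : ZMod M} (ha : TorZ Q M 1 a)
    (h1 : lnf θ Q M f a = 1) : a = 0 := by
  obtain ⟨x0, hx0, -⟩ := exists_x0 h hN
  have h2 : x0 ^ (Q - 1) = 1 := by
    have h3 : x0 ^ ((Q - 1).natAbs : ℤ) = 1 := by rw [zpow_natCast, ← hx0, pow_orderOf_eq_one]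
    rcases Int.natAbs_eq (Q - 1) with h5 | h5
    · rw [h5]; exact h3
    · rw [h5, zpow_neg, h3, inv_one]
  obtain ⟨g, hg⟩ := hsurj x0 h2
  have h3 := DFunLike.congr_fun h1 g
  rw [lnf_apply, MonoidHom.one_apply, hg] at h3
  have h4 : x0 ^ expoZ Q M 1 a = 1 := by
    apply Units.ext
    apply h.inj
    have h5 := congrArg (fun z : ℂˣ => (z : ℂ)) h3
    simp only [Units.coe_map, Units.val_one] at h5
    rw [Units.val_one, map_one]
    exact h5
  have h5 : ((orderOf x0 : ℕ) : ℤ) ∣ expoZ Q M 1 a := orderOf_dvd_iff_zpow_eq_one.2 h4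
  rw [hx0, Int.natAbs_dvd] at h5
  obtain ⟨j, hj⟩ := h5
  have h6 := expoZ_mul ha
  rw [pow_one, hj] at h6
  have h7 : (M : ℤ) ∣ (a.val : ℤ) := by
    refine ⟨j, ?_⟩
    have h8 := Q_sub_ne h
    apply mul_right_cancel₀ h8
    rw [← h6]
    ring
  have h8 : M ∣ a.val := by exact_mod_cast h7
  have h9 := Nat.eq_zero_of_dvd_of_lt h8 (ZMod.val_lt a)
  exact (ZMod.val_eq_zero a).1 h9

include hN hf in
theorem orderOf_lnf (hsurj : ∀ x : Kˣ, x ^ (Q - 1) = 1 → ∃ g, f g = x) {a : ZMod M} (ha : TorZ Q M 1 a) :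
    orderOf (lnf θ Q M f a) = addOrderOf a := by
  refine Nat.dvd_antisymm ?_ ?_
  · apply orderOf_dvd_of_pow_eq_one
    rw [← lnf_nsmul hf ha, addOrderOf_nsmul_eq_zero, lnf_zero]
  · apply addOrderOf_dvd_of_nsmul_eq_zero
    apply lnf_eq_one h hN hf hsurj (torZ_nsmul' ha _)
    rw [lnf_nsmul hf ha, pow_orderOf_eq_one]

include hN hf in
theorem lnf_surj (hsurj : ∀ x : Kˣ, x ^ (Q - 1) = 1 → ∃ g, f g = x) (l : G →* ℂˣ) (hl : ∀ x ∈ f.ker, l x = 1) :
    ∃ a : ZMod M, TorZ Q M 1 a ∧ lnf θ Q M f a = l := by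
  obtain ⟨x0, hx0, hgen⟩ := exists_x0 h hN
  have hr0 : (Q - 1).natAbs ≠ 0 := by
    rw [Int.natAbs_ne_zero]
    exact Q_sub_ne h
  have hker : ∀ g g' : G, f g = f g' → l g = l g' := by
    intro g g' hgg
    have h1 : l (g * g'⁻¹) = 1 := hl _ (by rw [MonoidHom.mem_ker, map_mul, map_inv, hgg, mul_inv_cancel])
    rwa [map_mul, map_inv, mul_inv_eq_one] at h1
  have h2 : x0 ^ (Q - 1) = 1 := by
    have h3 : x0 ^ ((Q - 1).natAbs : ℤ) = 1 := by rw [zpow_natCast, ← hx0, pow_orderOf_eq_one]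
    rcases Int.natAbs_eq (Q - 1) with h5 | h5
    · rw [h5]; exact h3
    · rw [h5, zpow_neg, h3, inv_one]
  obtain ⟨g0, hg0⟩ := hsurj x0 h2
  -- the value at `g0` is a root of unity
  have h3 : l g0 ^ (Q - 1).natAbs = 1 := by
    rw [← map_pow, hl]
    rw [MonoidHom.mem_ker, map_pow, hg0, ← hx0, pow_orderOf_eq_one]
  have hprim : IsPrimitiveRoot (θ ((x0 : Kˣ) : K)) (Q - 1).natAbs := by
    rw [← hx0]
    have h4 : IsPrimitiveRoot x0 (orderOf x0) := IsPrimitiveRoot.orderOf x0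
    exact (IsPrimitiveRoot.coe_units_iff.2 h4).map_of_injective (f := (θ : K →* ℂ)) h.inj
  have : NeZero (Q - 1).natAbs := ⟨hr0⟩
  obtain ⟨e, -, he⟩ := hprim.eq_pow_of_pow_eq_one (ξ := ((l g0 : ℂˣ) : ℂ)) (by
    rw [← Units.val_pow_eq_pow_val, h3, Units.val_one])
  obtain ⟨d, hd⟩ := dvd_one h hN
  set a : ZMod M := (((e : ℤ) * d : ℤ) : ZMod M) with ha
  have hta : TorZ Q M 1 a := by
    rw [TorZ, ha, pow_one]
    have h5 : ((Q - 1 : ℤ) : ZMod M) * (((e : ℤ) * d : ℤ) : ZMod M) = 0 := by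
      rw [← Int.cast_mul, ZMod.intCast_zmod_eq_zero_iff_dvd]
      exact ⟨e, by rw [hd]; ring⟩
    push_cast at h5 ⊢
    exact h5
  have hM0 : (M : ℤ) ≠ 0 := by exact_mod_cast NeZero.ne M
  -- the exponent
  have hexp : (Q - 1) ∣ expoZ Q M 1 a - e := by
    have h5 := expoZ_mul hta
    rw [pow_one] at h5
    have h6 : (M : ℤ) ∣ (a.val : ℤ) - e * d := by
      rw [← ZMod.intCast_zmod_eq_zero_iff_dvd]
      push_cast
      rw [ZMod.natCast_zmod_val, ha]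
      push_cast
      ring
    obtain ⟨t, ht⟩ := h6
    refine ⟨t, mul_right_cancel₀ hM0 ?_⟩
    rw [sub_mul, h5]
    linear_combination (Q - 1) * ht - (e : ℤ) * hd
  refine ⟨a, hta, ?_⟩
  have h7 : lnf θ Q M f a g0 = l g0 := by
    apply Units.ext
    rw [lnf_coe, hg0, ← he, th_zpow]
    have h8 : x0 ^ expoZ Q M 1 a = x0 ^ (e : ℤ) := by
      refine pow_of_level (Q := Q) (k := 1) ?_ ?_
      · rw [← hg0]
        exact hf' hf g0
      · rw [pow_one]
        exact hexp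
    rw [h8, zpow_natCast, Units.val_pow_eq_pow_val, map_pow]
  ext g
  congr 1
  obtain ⟨i, hi⟩ := Subgroup.mem_zpowers_iff.1 (hgen (f g) (hf g))
  have h8 : f g = f (g0 ^ i) := by rw [map_zpow, hg0, hi]
  rw [hker g (g0 ^ i) h8, map_zpow, ← h7, ← map_zpow, lnf_apply, lnf_apply, h8]

end abs

section data

variable {K : Type v} [Field K] {θ : K →*₀ ℂ} {Q : ℤ} {M : ℕ} [NeZero M] {N p n : ℕ}
variable {G : Type u} [Group G] [Finite G]

/-- the labels of the linear characters -/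
noncomputable def linData {R : Rz Q M p n G} (h : CtxQ θ Q M N) (hN : 1 ≤ N) (f : G →* Kˣ)
    (hf : ∀ g, f g ^ (Q - 1) = 1) (hsurj : ∀ x : Kˣ, x ^ (Q - 1) = 1 → ∃ g, f g = x)
    (htw : ∀ a, TorZ Q M 1 a → ∀ x ∈ Hom Q M n,
      R.om (twist Q M a x) = fun g => θ ((f g : Kˣ) : K) ^ expoZ Q M 1 a * R.om x g)
    (S : Subgroup G) (hS : S = f.ker) : LinData R S where
  ln a := lnf θ Q M f a
  triv a _ x hx := by
    rw [hS, MonoidHom.mem_ker] at hx
    rw [lnf_apply, hx, one_zpow, map_one]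
  surj l hl := by
    subst hS
    exact lnf_surj h hN hf hsurj l hl
  ord a ha := orderOf_lnf h hN hf hsurj ha
  tw a ha x hx := by
    rw [htw a ha x hx]
    funext g
    rw [Pi.mul_apply, lnf_coe]

/-- the index of the kernel divides `|Q - 1|` -/
theorem index_dvd (h : CtxQ θ Q M N) (f : G →* Kˣ) (hf : ∀ g, f g ^ (Q - 1) = 1) :
    (f.ker).index ∣ (Q - 1).natAbs := by
  have := h.finK
  rw [Subgroup.index_ker]
  have hcy : IsCyclic f.range := Subgroup.isCyclic _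
  obtain ⟨g, hg⟩ := IsCyclic.exists_generator (α := f.range)
  rw [← orderOf_eq_card_of_forall_mem_zpowers hg, orderOf_dvd_iff_pow_eq_one]
  obtain ⟨_, ⟨x, rfl⟩⟩ := g
  apply Subtype.ext
  show f x ^ (Q - 1).natAbs = 1
  rw [← zpow_natCast]
  rcases Int.natAbs_eq (Q - 1) with h5 | h5
  · rw [← h5]; exact hf x
  · have h6 := hf x
    rw [h5, zpow_neg, inv_eq_one] at h6
    exact h6

end data

end Cfsg.Agent.H666.GU
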