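import Cfsg.Agent.H666.GU.Asm
import Cfsg.Agent.H941.GLn.GB5

/-!
# S4537: the tower of `GU n F q`, families are blocks, the splitting

* `towGU` : the tower (structure `Tow` of helper623);
* `om_tau1U`, `sameBlockU` : if `p` divides `q + 1` a family is one block;
-/

set_option autoImplicit false
set_option linter.unusedSectionVars false

open Cfsg Polynomial
open scoped ComplexConjugate MatrixGroups

namespace Cfsg.Agent.H666.GU

open Cfsg.Agent.H577.GLB Cfsg.Agent.H577.GLB.Std Cfsg.Agent.H614 Cfsg.Agent.H112.GLB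
open Cfsg.Agent.H615.GU Cfsg.Agent.H421.GU Cfsg.Agent.H666.Clif Cfsg.Agent.H614.GU Cfsg.Agent.H623.GU
open Cfsg.Agent.H608.BlockRank Cfsg.Agent.Blocks.Local Cfsg.Agent.H614.GLn Cfsg.Agent.H577.GUX

universe u

variable {F : Type u} [Field F] [Fintype F] {K : Type u} [Field K] [Algebra F K] {θ : K →*₀ ℂ} {q N M p : ℕ}
  [NeZero M]

/-- the tower of the groups `GU n F q` -/
noncomputable def towGU (C : Ctx F θ N M) (hF : Fintype.card F = q ^ 2) (hp : p.Prime) (hpF : p ≠ ringChar F) :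
    Tow θ (-(q : ℤ)) M N p (fun n => Cfsg.GU n F q) where
  T := TU C hF
  hyp n hn := rzU C hF hp hpF hn
  gr n hn := grU C hF hp hpF hn
  bij n m hn hm := bijU C hF hp hpF hn hm
  preg n hn g hg := by
    have := C.finK
    rw [← H697.GW.preg_iff_GU (splU C hn) (isTypU C hF hn) hp (cast_ne_zero_of hp hpF) g, Nat.coprime_comm,
      hp.coprime_iff_not_dvd]
    exact hg

theorem towGU_typ (C : Ctx F θ N M) (hF : Fintype.card F = q ^ 2) (hp : p.Prime) (hpF : p ≠ ringChar F) (n : ℕ)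
    (hn : n ≤ N) : IsTypU q n ((towGU C hF hp hpF).T n hn) := isTypU C hF hn

open Classical in
/-- the elements of order not divisible by `p ^ 2` -/
theorem om_tau1U (C : Ctx F θ N M) (hF : Fintype.card F = q ^ 2) (hp : p.Prime) (hpF : p ≠ ringChar F)
    (t : Tow θ (-(q : ℤ)) M N p (fun n => Cfsg.GU n F q)) (ht : ∀ n (hn : n ≤ N), IsTypU q n (t.T n hn)) {n : ℕ}
    (hn : n ≤ N) {x : RS M} (hx : x ∈ Hom (-(q : ℤ)) M n) (g : Cfsg.GU n F q) :
    (t.R n hn).om (H941.GLn.FamOne.tau1 (-(q : ℤ)) M p x) g =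
      (if p ^ 2 ∣ orderOf g then 0 else 1) * (t.R n hn).om x g := by
  have := C.finK
  have hctx := ctxU C hF
  rw [t.R_om hn, t.R_om hn, H501.GU.evR_tau1 hctx.card hctx.unit hctx.inj hp hctx.dvd
    (fun v x => H531.GU.evR_X_mul θ _ M H521.GU.i2s v x) (hom_le_genR n x hx) _
    (((t.T n hn).deg g).le.trans hn)]
  have h1 := H697.GW.pow_dvd_orderOf_iff_GU (splU C hn) (ht n hn) hp (cast_ne_zero_of hp hpF) g (k := 2) two_pos
  by_cases h : p ^ 2 ∣ orderOf g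
  · obtain ⟨y, hy, hy'⟩ := h1.1 h
    rw [if_pos h, zero_mul, if_neg]
    intro h2
    exact h2 y hy hy'
  · rw [if_neg h, one_mul, if_pos]
    intro y hy hy'
    exact h (h1.2 ⟨y, hy, hy'⟩)

/-- if `p` divides `q + 1` a family is one block -/
theorem sameBlockU (C : Ctx F θ N M) (hF : Fintype.card F = q ^ 2) (hpF : p ≠ ringChar F)
    (t : Tow θ (-(q : ℤ)) M N p (fun n => Cfsg.GU n F q)) (ht : ∀ n (hn : n ≤ N), IsTypU q n (t.T n hn))
    {𝔐 : Ideal AlgInt} (h𝔐 : IsPModular p 𝔐) (hQ1 : ((-(q : ℤ) : ℤ) : ZMod p) = 1) {n : ℕ} (hn : n ≤ N) (hn0 : 0 < n)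
    {m : ℕ} (hm : n ≤ m) {B : Set (IrrCharacter (Cfsg.GU n F q))} (hB : IsPBlock 𝔐 B)
    {χ : IrrCharacter (Cfsg.GU n F q)} (hχ : χ ∈ B) {l : LabZ (-(q : ℤ)) M m n} (hl : (t.R n hn).IsLb χ l)
    (ψ : IrrCharacter (Cfsg.GU n F q)) (l' : LabZ (-(q : ℤ)) M m n) (hl' : (t.R n hn).IsLb ψ l')
    (h : SameFam (-(q : ℤ)) M p l.t l'.t) : ψ ∈ B := by
  classical
  have hp := h𝔐.1
  have := C.finK
  have hctx := ctxU C hF
  have hpM : p ∣ M := by
    have h1 := hctx.dvd 1 one_pos (by omega)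
    rw [pow_one] at h1
    have h2 : (p : ℤ) ∣ -(q : ℤ) - 1 := by
      rw [← ZMod.intCast_zmod_eq_zero_iff_dvd]
      push_cast at hQ1 ⊢
      rw [hQ1, sub_self]
    exact_mod_cast h2.trans h1
  refine H941.GLn.GB5.Rz.sameBlock_of_fam (t.R n hn) (fun x hx g => ?_) h𝔐 hQ1 hpM hm (t.bij n m hn hm) hB hχ hl hl' h
  have h2 := om_tau1U C hF hp hpF t ht hn hx g
  convert h2

end Cfsg.Agent.H666.GU
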