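import Cfsg.Agent.H666.GU.Plug
import Cfsg.Agent.H139.GUX.Twr
import Cfsg.Agent.H623.GU.Val

/-!
# S4537: `su_plug`, the bound for `SU N F q` from `hNz` and `helab` only
-/

set_option autoImplicit false
set_option linter.unusedSectionVars false

open Cfsg Polynomial
open scoped ComplexConjugate MatrixGroups

namespace Cfsg.Agent.H666.GU

open Cfsg.Agent.H577.GLB Cfsg.Agent.H577.GLB.Std Cfsg.Agent.H614 Cfsg.Agent.H112.GLB
open Cfsg.Agent.H615.GU Cfsg.Agent.H421.GU Cfsg.Agent.H666.Clif Cfsg.Agent.H614.GU Cfsg.Agent.H623.GU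
open Cfsg.Agent.H608.BlockRank Cfsg.Agent.Blocks.Local Cfsg.Agent.H614.GLn Cfsg.Agent.H577.GUX

universe u

variable {F : Type u} [Field F] [Fintype F] {K : Type u} [Field K] [Algebra F K] {θ : K →*₀ ℂ} {q N M p : ℕ}
  [NeZero M]

/-- **The bound for `SU N F q` from the nonvanishing and the elementary abelian subgroups.** -/
theorem su_plug (C : Ctx F θ N M) (hF : Fintype.card F = q ^ 2) (hpF : p ≠ ringChar F) (hN0 : 0 < N)
    (t : Tow θ (-(q : ℤ)) M N p (fun n => Cfsg.GU n F q)) (ht : ∀ n (hn : n ≤ N), IsTypU q n (t.T n hn))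
    {𝔐 : Ideal AlgInt} (h𝔐 : IsPModular p 𝔐) [𝔐.IsPrime]
    (hNz : ∀ {B : Set (IrrCharacter (Cfsg.GU N F q))}, IsPBlock 𝔐 B → ∀ {χ : IrrCharacter (Cfsg.GU N F q)},
      χ ∈ B → ∀ {l : LabZ (-(q : ℤ)) M N N}, (t.R N (le_refl N)).IsLb χ l → POnly M p l.t →
      ∀ a : ZMod M, SF (-(q : ℤ)) M p l a → ∃ x : Cfsg.GU N F q,
        H624.Sl.Nz 𝔐 ((TLin C hF t ht (le_refl N) hN0).ln a) B x)
    (helab : ∀ {B : Set (IrrCharacter (Cfsg.GU N F q))}, IsPBlock 𝔐 B → ∀ {χ : IrrCharacter (Cfsg.GU N F q)},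
      χ ∈ B → ∀ {l : LabZ (-(q : ℤ)) M N N}, (t.R N (le_refl N)).IsLb χ l → POnly M p l.t →
      ∀ D : Subgroup (Cfsg.GU N F q), IsDefectGroup p 𝔐 B D → ∃ A : Subgroup (Cfsg.GU N F q), A ≤ D ∧
        (∀ x ∈ A, ∀ y ∈ A, x * y = y * x) ∧ (∀ x ∈ A, x ^ p = 1) ∧
        Nat.card A = p ^ totW (-(q : ℤ)) M p l.t)
    (B : Set (IrrCharacter (Cfsg.SU N F q))) (hB : IsPBlock 𝔐 B) (D : Subgroup (Cfsg.SU N F q))
    (hD : IsDefectGroup p 𝔐 B D) (s : ℕ) (hs : SectionalPRankLE p s D) : blockRank p B ≤ p ^ s := by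
  have hone : p = 2 → ∀ {n : ℕ} (hn : n ≤ N), 0 < n → ∀ {m : ℕ}, n ≤ m →
      ∀ {B : Set (IrrCharacter (Cfsg.GU n F q))}, IsPBlock 𝔐 B →
      ∀ {χ : IrrCharacter (Cfsg.GU n F q)}, χ ∈ B → ∀ {l : LabZ (-(q : ℤ)) M m n}, (t.R n hn).IsLb χ l →
      ∀ (ψ : IrrCharacter (Cfsg.GU n F q)) (l' : LabZ (-(q : ℤ)) M m n), (t.R n hn).IsLb ψ l' →
      SameFam (-(q : ℤ)) M p l.t l'.t → ψ ∈ B := by
    intro hp2 n hn hn0 m hm B hB χ hχ l hl ψ l' hl' hf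
    refine sameBlockU C hF hpF t ht h𝔐 ?_ hn hn0 hm hB hχ hl ψ l' hl' hf
    subst hp2
    have h1 := isUnit_Q (natCard_eq hF) Nat.prime_two hpF
    have h2 : ∀ x : ZMod 2, IsUnit x → x = 1 := by decide
    exact h2 _ h1
  refine su_asm C hF hpF hN0 t ht h𝔐 hNz helab
    (fun hp2 {n} hn hn0 {B} hB {χ} hχ {l} hl ψ l' hl' hf => hone hp2 hn hn0 hn hB hχ hl ψ l' hl' hf) ?_ B hB D hD s hs
  intro hp2
  subst hp2
  refine H139.GUX.splitTower_gu hF ?_ (r67 (ctxU C hF) Nat.prime_two one_pos) t ht h𝔐 (fun {n} hn hn0 hm {B} hB {χ} hχ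
    {l} hl ψ l' hl' hf => hone rfl hn hn0 hm hB hχ hl ψ l' hl' hf)
  have h1 := cast_ne_zero_of (F := F) Nat.prime_two hpF
  exact_mod_cast h1

end Cfsg.Agent.H666.GU
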