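import Cfsg.Agent.H76.GLB.ProdBlk

/-!
# The defect groups of an outer product of blocks
-/

set_option autoImplicit false
set_option linter.unusedSectionVars false

open Cfsg

namespace Cfsg.Agent.H666.GU

open Cfsg.Agent.H644 Cfsg.Agent.Blocks.Local Cfsg.Agent.H648.Dict Cfsg.Agent.H624.Sl Cfsg.Agent.H466.Sl
open Cfsg.Agent.Characters.Core Cfsg.Agent.H76.GLB

theorem syl_card {Y : Type*} [Group Y] [Finite Y] {p : ℕ} [Fact p.Prime] {C : Subgroup Y} {D : Subgroup Y}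
    (P : Sylow p C) (hD : D = (P : Subgroup C).map C.subtype) :
    D ≤ C ∧ IsPGroup p D ∧ ∃ r : ℕ, ¬ p ∣ r ∧ Nat.card C = Nat.card D * r := by
  subst hD
  refine ⟨Subgroup.map_subtype_le _, P.isPGroup'.map _, (P : Subgroup C).index, P.not_dvd_index, ?_⟩
  rw [← Subgroup.card_mul_index (P : Subgroup C)]
  congr 1
  exact (Nat.card_congr ((P : Subgroup C).equivMapOfInjective _ C.subtype_injective).toEquiv)

theorem exists_sylow {Y : Type*} [Group Y] [Finite Y] {p : ℕ} [hp : Fact p.Prime] {C R : Subgroup Y}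
    (hR : R ≤ C) (hRp : IsPGroup p R) {r : ℕ} (hr : ¬ p ∣ r) (hc : Nat.card C = Nat.card R * r) :
    ∃ P : Sylow p C, R = (P : Subgroup C).map C.subtype := by
  have h1 : Nat.card (R.subgroupOf C) = Nat.card R := Nat.card_congr (Subgroup.subgroupOfEquivOfLe hR).toEquiv
  have h2 : ¬ p ∣ (R.subgroupOf C).index := by
    have h3 := Subgroup.card_mul_index (R.subgroupOf C)
    rw [h1, hc] at h3
    rw [Nat.eq_of_mul_eq_mul_left Nat.card_pos h3]
    exact hr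
  refine ⟨hRp.comap_subtype.toSylow h2, ?_⟩
  change R = (R.subgroupOf C).map C.subtype
  rw [Subgroup.subgroupOf_map_subtype, inf_eq_left.2 hR]

variable {X₁ X₂ G : Type*} [Group X₁] [Finite X₁] [Group X₂] [Finite X₂] [Group G] [Finite G] {p : ℕ} [Fact p.Prime]
  {𝔐 : Ideal AlgInt} {H : Subgroup G} {j : X₁ × X₂ →* G}

theorem isDefectGroup_prodBlk (hM : IsPModular p 𝔐) (hj : Function.Injective j) (hr : j.range = H)
    {b₁ : Set (IrrCharacter X₁)} {b₂ : Set (IrrCharacter X₂)} {D₁ : Subgroup X₁} {D₂ : Subgroup X₂}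
    (hD₁ : IsDefectGroup p 𝔐 b₁ D₁) (hD₂ : IsDefectGroup p 𝔐 b₂ D₂) :
    IsDefectGroup p 𝔐 (prodBlk H j b₁ b₂) ((D₁.prod D₂).map (onto j hj H hr).toMonoidHom) := by
  have hP : 𝔐.IsPrime := isPrime_of_isPModular hM
  have hp : p.Prime := Fact.out
  obtain ⟨g₁, hg₁, P₁, hP₁⟩ := hD₁
  obtain ⟨g₂, hg₂, P₂, hP₂⟩ := hD₂
  obtain ⟨hle₁, hp₁, r₁, hr₁, hc₁⟩ := syl_card P₁ hP₁
  obtain ⟨hle₂, hp₂, r₂, hr₂, hc₂⟩ := syl_card P₂ hP₂
  set φ := onto j hj H hr with hφ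
  have hdef : IsDefectClass 𝔐 (prodBlk H j b₁ b₂) (φ (g₁, g₂)) := by
    refine ⟨?_, ?_, ?_⟩
    · rw [blockCoeff_prodBlk j hj H hr]
      exact memLocalRing_mul hg₁.1 hg₂.1
    · rw [blockCoeff_prodBlk j hj H hr]
      exact not_memLocalIdeal_mul hg₁.1 hg₂.1 hg₁.2.1 hg₂.2.1
    · rw [prodBlk_eq j hj H hr]
      rintro χ ⟨⟨χ₁, χ₂⟩, ⟨h₁, h₂⟩, rfl⟩
      rw [centralChar_outer]
      exact not_memLocalIdeal_mul (memLocalRing_centralChar χ₁ _) (memLocalRing_centralChar χ₂ _)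
        (hg₁.2.2 χ₁ h₁) (hg₂.2.2 χ₂ h₂)
  have hCm : Subgroup.centralizer ({φ (g₁, g₂)} : Set H) = ((Subgroup.centralizer ({g₁} : Set X₁)).prod
      (Subgroup.centralizer ({g₂} : Set X₂))).map φ.toMonoidHom := by
    rw [← map_centralizer, centralizer_prod]
  have hcard : ∀ (A : Subgroup X₁) (B : Subgroup X₂), Nat.card ((A.prod B).map φ.toMonoidHom) =
      Nat.card A * Nat.card B := by
    intro A B
    rw [← Nat.card_prod, ← Nat.card_congr ((A.prod B).equivMapOfInjective φ.toMonoidHom φ.injective).toEquiv]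
    exact Nat.card_congr (A.prodEquiv B).toEquiv
  have hRp : IsPGroup p ((D₁.prod D₂).map φ.toMonoidHom) := by
    refine IsPGroup.map ?_ _
    rintro ⟨⟨z, d⟩, hz, hd⟩
    obtain ⟨a, ha⟩ := hp₁ ⟨z, hz⟩
    obtain ⟨b, hb⟩ := hp₂ ⟨d, hd⟩
    have ha' : z ^ p ^ a = 1 := congrArg Subtype.val ha
    have hb' : d ^ p ^ b = 1 := congrArg Subtype.val hb
    refine ⟨a + b, Subtype.ext (Prod.ext ?_ ?_)⟩
    · change z ^ p ^ (a + b) = 1
      rw [pow_add, pow_mul, ha', one_pow]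
    · change d ^ p ^ (a + b) = 1
      rw [pow_add, mul_comm, pow_mul, hb', one_pow]
  have hR : (D₁.prod D₂).map φ.toMonoidHom ≤ Subgroup.centralizer ({φ (g₁, g₂)} : Set H) := by
    rw [hCm]
    exact Subgroup.map_mono (Subgroup.prod_mono hle₁ hle₂)
  obtain ⟨P, hP'⟩ := exists_sylow (r := r₁ * r₂) hR hRp (fun h => (hp.dvd_mul.1 h).elim hr₁ hr₂) (by
    rw [hCm, hcard, hcard, hc₁, hc₂]
    ring)
  exact ⟨φ (g₁, g₂), hdef, P, hP'⟩

end Cfsg.Agent.H666.GU
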