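import Cfsg.Agent.H666.GU.Prod
import Cfsg.Agent.S0919
import Cfsg.Agent.S0917
import Cfsg.Agent.S0934
import Cfsg.Agent.S4438
import Cfsg.Agent.H662.IndLocal
import Cfsg.Agent.H648.IndexStab

/-!
# Defect groups and an involution swapping two factors
-/

set_option autoImplicit false
set_option linter.unusedSectionVars false

open Cfsg

namespace Cfsg.Agent.H666.GU

open Cfsg.Agent.H644 Cfsg.Agent.Blocks.Local Cfsg.Agent.H648.Dict Cfsg.Agent.H624.Sl Cfsg.Agent.H466.Sl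
open Cfsg.Agent.H76.GLB

section

variable {X Y : Type*} [Group X] [Finite X] [Group Y] [Finite Y] {𝔐 : Ideal AlgInt}

theorem isPBlock_prodBlk {p : ℕ} [Fact p.Prime] (hM : IsPModular p 𝔐) {N : Subgroup Y} {j : X × X →* Y}
    (hj : Function.Injective j) (hr : j.range = N) {b₁ b₂ : Set (IrrCharacter X)} (hb₁ : IsPBlock 𝔐 b₁)
    (hb₂ : IsPBlock 𝔐 b₂) : IsPBlock 𝔐 (prodBlk N j b₁ b₂) := by
  obtain ⟨χ₁, rfl⟩ := hb₁
  obtain ⟨χ₂, rfl⟩ := hb₂
  obtain ⟨ψ, hψ⟩ := exists_prodChar (H := N) hj hr χ₁ χ₂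
  exact ⟨ψ, prodBlk_blockOf hM hj hr χ₁ χ₂ ψ hψ⟩

theorem stabilizes_prodBlk {N : Subgroup Y} {j : X × X →* Y} (hj : Function.Injective j) (hr : j.range = N)
    (t : Y) (ht : t ∈ Subgroup.normalizer (N : Set Y)) (hswap : ∀ x y, t * j (x, y) * t⁻¹ = j (y, x))
    (b₁ : Set (IrrCharacter X)) : StabilizesBlock N (prodBlk N j b₁ b₁) t := by
  refine ⟨ht, ?_⟩
  rintro χ ⟨χ₁, hχ₁, χ₂, hχ₂, h⟩
  obtain ⟨ψ, hψ⟩ := exists_prodChar (H := N) hj hr χ₂ χ₁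
  refine ⟨ψ, ⟨χ₂, hχ₂, χ₁, hχ₁, hψ⟩, ?_⟩
  intro k k' hk
  have h1 : (k : Y) ∈ j.range := by
    rw [hr]
    exact k.2
  obtain ⟨⟨x, y⟩, hxy⟩ := h1
  have h2 : j (y, x) = k' := by rw [hk, ← hxy, hswap]
  rw [h (x, y) k hxy, hψ (y, x) k' h2, mul_comm]

/-- The inner part: `N` is of index two. -/
theorem wreath_in (hM : IsPModular 2 𝔐) (N : Subgroup Y) [hN : N.Normal] (j : X × X →* Y)
    (hj : Function.Injective j) (hr : j.range = N) (t : Y) (ht : t * t = 1) (htN : t ∉ N)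
    (hgen : ∀ y : Y, y ∉ N → ∃ n ∈ N, y = n * t) (hidx : ∃ k : ℕ, N.index = 2 ^ k)
    (hswap : ∀ x y, t * j (x, y) * t⁻¹ = j (y, x)) (z : X) (hz : ∃ k : ℕ, orderOf (j (z, 1)) = 2 ^ k)
    (hC : Subgroup.centralizer ({j (z, 1)} : Set Y) = N) {b₁ : Set (IrrCharacter X)} (hb₁ : IsPBlock 𝔐 b₁)
    {D₁ : Subgroup X} (hD₁ : IsDefectGroup 2 𝔐 b₁ D₁) :
    ∃ b : Set (IrrCharacter Y), IsInducedBlock 𝔐 N (prodBlk N j b₁ b₁) b ∧
      ∃ P : Subgroup Y, IsDefectGroup 2 𝔐 b P ∧ t ∈ P ∧ ∀ d ∈ D₁, ∀ d' ∈ D₁, j (d, d') ∈ P := by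
  classical
  have hMp := isPrime_of_isPModular hM
  have := Fintype.ofFinite Y
  have := Fintype.ofFinite N
  have hb' := isPBlock_prodBlk hM hj hr hb₁ hb₁
  -- the induced block
  set u := j (z, 1) with hu
  have hPg : IsPGroup 2 (Subgroup.zpowers u) := by
    obtain ⟨k, hk⟩ := hz
    refine IsPGroup.of_card (n := k) ?_
    rw [Nat.card_zpowers, hk]
  have hCz : Subgroup.centralizer ((Subgroup.zpowers u : Subgroup Y) : Set Y) = N := by
    rw [Subgroup.zpowers_eq_closure, Subgroup.centralizer_closure, hC]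
  have huN : Subgroup.zpowers u ≤ N := by
    rw [Subgroup.zpowers_le, ← hr]
    exact ⟨_, rfl⟩
  obtain ⟨b, hind⟩ := Cfsg.Agent.S0919.result 2 𝔐 hM (Subgroup.zpowers u) N hPg huN hCz.le (by
    intro n hn
    have h1 : n ∈ Subgroup.centralizer ((Subgroup.zpowers u : Subgroup Y) : Set Y) := hCz ▸ hn
    exact Subgroup.centralizer_le_normalizer _ h1) _ hb'
  refine ⟨b, hind, ?_⟩
  have hb : IsPBlock 𝔐 b := hind.2.1
  -- covering
  obtain ⟨ξ, hξ⟩ := Blocks.Basic.isPBlock_nonempty hb'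
  obtain ⟨χ, hχ, hne⟩ := Cfsg.Agent.S0934.result 2 𝔐 hM N _ b hind ξ hξ
  have hcov : Covers N b (prodBlk N j b₁ b₁) := ⟨χ, hχ, ξ, hξ, hne⟩
  -- the defect group
  have hdef := isDefectGroup_prodBlk (H := N) hM hj hr hD₁ hD₁
  set φ := onto j hj N hr with hφ
  set Q : Subgroup Y := ((D₁.prod D₁).map φ.toMonoidHom).map N.subtype with hQ
  have hQN : Q ≤ N := Subgroup.map_subtype_le _
  have hQs : Q.subgroupOf N = (D₁.prod D₁).map φ.toMonoidHom :=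
    Subgroup.comap_map_eq_self_of_injective N.subtype_injective _
  obtain ⟨P, hP, hPN⟩ := Cfsg.Agent.S4438.result 2 𝔐 hM N (prodBlk N j b₁ b₁) hb' Q hQN
    (by rw [hQs]; exact hdef) b hb ⟨χ, hχ, ξ, hξ, hne⟩
  have hmemQ : ∀ x y : X, j (x, y) ∈ Q ↔ x ∈ D₁ ∧ y ∈ D₁ := by
    intro x y
    constructor
    · rintro ⟨_, ⟨⟨a, b⟩, hab, rfl⟩, h⟩
      have h1 : j (a, b) = j (x, y) := h
      have h2 := hj h1
      rw [Prod.mk.injEq] at h2
      obtain ⟨rfl, rfl⟩ := h2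
      exact ⟨hab.1, hab.2⟩
    · rintro ⟨hx, hy⟩
      exact ⟨φ (x, y), ⟨(x, y), ⟨hx, hy⟩, rfl⟩, rfl⟩
  have hmemP : ∀ x y : X, j (x, y) ∈ P ↔ x ∈ D₁ ∧ y ∈ D₁ := by
    intro x y
    rw [← hmemQ, ← hPN, Subgroup.mem_inf]
    refine ⟨fun h => ⟨h, ?_⟩, fun h => h.1⟩
    rw [← hr]
    exact ⟨_, rfl⟩
  have hPnot : ¬ P ≤ N := by
    intro h
    exact htN (H648.IndexStab.mem_of_stabilizes N hM hidx hb hb' hcov hP h
      (stabilizes_prodBlk hj hr t (by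
        rw [Subgroup.normalizer_eq_top_iff.2 hN]
        exact Subgroup.mem_top t) hswap b₁))
  obtain ⟨g, hgP, hgN⟩ := SetLike.not_le_iff_exists.1 hPnot
  obtain ⟨n, hn, hgn⟩ := hgen g hgN
  rw [← hr] at hn
  obtain ⟨⟨a, c⟩, rfl⟩ := hn
  -- `g * g = j (a * c, c * a)`
  have htinv : t⁻¹ = t := inv_eq_of_mul_eq_one_left ht
  have hgg : g * g = j (a * c, c * a) := by
    have h1 : t * j (a, c) = j (c, a) * t := by
      rw [← hswap a c]
      group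
    rw [hgn]
    calc j (a, c) * t * (j (a, c) * t) = j (a, c) * (t * j (a, c)) * t := by group
      _ = j (a, c) * j (c, a) * (t * t) := by rw [h1]; group
      _ = j (a * c, c * a) := by rw [ht, mul_one, ← map_mul]; rfl
  have hca : c * a ∈ D₁ := ((hmemP _ _).1 (hgg ▸ P.mul_mem hgP hgP)).2
  have hconj : ∀ d ∈ D₁, c * d * c⁻¹ ∈ D₁ := by
    intro d hd
    have h1 : g * j (d, 1) * g⁻¹ ∈ P :=
      P.mul_mem (P.mul_mem hgP ((hmemP _ _).2 ⟨hd, D₁.one_mem⟩)) (P.inv_mem hgP)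
    have h2 : g * j (d, 1) * g⁻¹ = j (1, c * d * c⁻¹) := by
      rw [hgn]
      calc j (a, c) * t * j (d, 1) * (j (a, c) * t)⁻¹ = j (a, c) * (t * j (d, 1) * t⁻¹) * (j (a, c))⁻¹ := by group
        _ = j (1, c * d * c⁻¹) := by
          rw [hswap, ← map_mul, ← map_inv, ← map_mul]
          congr 1
          simp
    rw [h2] at h1
    exact ((hmemP _ _).1 h1).2
  have hconj' : ∀ d ∈ D₁, c⁻¹ * d * c ∈ D₁ := by
    have h1 : D₁.map (MulAut.conj c).toMonoidHom = D₁ := by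
      refine Subgroup.eq_of_le_of_card_ge ?_ ?_
      · rintro _ ⟨d, hd, rfl⟩
        exact hconj d hd
      · rw [Nat.card_congr (D₁.equivMapOfInjective _ (MulAut.conj c).injective).symm.toEquiv]
    intro d hd
    rw [← h1] at hd
    obtain ⟨e, he, rfl⟩ := hd
    have h2 : c⁻¹ * (MulAut.conj c).toMonoidHom e * c = e := by
      change c⁻¹ * (c * e * c⁻¹) * c = e
      group
    rw [h2]
    exact he
  -- conjugate by `j (c, 1)`
  refine ⟨P.map (MulAut.conj (j (c, 1))).toMonoidHom, Blocks.Basic.isDefectGroup_conj hP _, ?_, ?_⟩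
  · -- `t = j ((c a)⁻¹, 1) * (j (c, 1) * g * j (c, 1)⁻¹)`
    have h1 : j ((c * a)⁻¹, 1) * (j (c, 1) * g * (j (c, 1))⁻¹) = t := by
      have h2 : t * (j (c, 1))⁻¹ = (j (1, c))⁻¹ * t := by
        have h3 := hswap c 1
        have h4 : t * (j (c, 1))⁻¹ * t⁻¹ = (j (1, c))⁻¹ := by rw [← h3]; group
        rw [← h4]
        group
      rw [hgn]
      calc j ((c * a)⁻¹, 1) * (j (c, 1) * (j (a, c) * t) * (j (c, 1))⁻¹)
          = j ((c * a)⁻¹, 1) * j (c, 1) * j (a, c) * (t * (j (c, 1))⁻¹) := by group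
        _ = (j ((c * a)⁻¹, 1) * j (c, 1) * j (a, c) * (j (1, c))⁻¹) * t := by rw [h2]; group
        _ = t := by
          rw [← map_inv, ← map_mul, ← map_mul, ← map_mul]
          have h5 : (((c * a)⁻¹, 1) : X × X) * (c, 1) * (a, c) * (1, c)⁻¹ = 1 := by
            simp [Prod.ext_iff, mul_assoc]
          rw [h5, map_one, one_mul]
    rw [← h1]
    refine Subgroup.mul_mem _ ?_ ⟨g, hgP, rfl⟩
    refine ⟨j (c⁻¹ * (c * a)⁻¹ * c, 1), (hmemP _ _).2 ⟨hconj' _ (D₁.inv_mem hca), D₁.one_mem⟩, ?_⟩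
    change j (c, 1) * j (c⁻¹ * (c * a)⁻¹ * c, 1) * (j (c, 1))⁻¹ = _
    rw [← map_inv, ← map_mul, ← map_mul]
    congr 1
    simp [mul_assoc]
  · intro d hd d' hd'
    refine ⟨j (c⁻¹ * d * c, d'), (hmemP _ _).2 ⟨hconj' d hd, hd'⟩, ?_⟩
    change j (c, 1) * j (c⁻¹ * d * c, d') * (j (c, 1))⁻¹ = _
    rw [← map_inv, ← map_mul, ← map_mul]
    congr 1
    simp [mul_assoc]

end

end Cfsg.Agent.H666.GU
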