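import Cfsg.Agent.H666.GU.Wreath

/-!
# Defect groups and an involution swapping two factors: the outer part
-/

set_option autoImplicit false
set_option linter.unusedSectionVars false

open Cfsg

namespace Cfsg.Agent.H666.GU

open Cfsg.Agent.H644 Cfsg.Agent.Blocks.Local Cfsg.Agent.H648.Dict Cfsg.Agent.H624.Sl Cfsg.Agent.H466.Sl
open Cfsg.Agent.H76.GLB Cfsg.Agent.H662

section

variable {G : Type*} [Group G]

/-- the extension of `L` by an involution normalizing it -/
def extT (L : Subgroup G) (t : G) (ht : t * t = 1) (hL : ∀ l ∈ L, t * l * t⁻¹ ∈ L) : Subgroup G where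
  carrier := {g | g ∈ L ∨ g * t ∈ L}
  one_mem' := Or.inl L.one_mem
  mul_mem' := by
    have hti : t⁻¹ = t := inv_eq_of_mul_eq_one_left ht
    rintro a b (ha | ha) (hb | hb)
    · exact Or.inl (L.mul_mem ha hb)
    · exact Or.inr (by rw [mul_assoc]; exact L.mul_mem ha hb)
    · refine Or.inr ?_
      have h1 : a * b * t = a * t * (t * b * t⁻¹) := by
        rw [hti]
        calc a * b * t = a * (t * t) * b * t := by rw [ht, mul_one]
          _ = a * t * (t * b * t) := by group
      rw [h1]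
      exact L.mul_mem ha (hL b hb)
    · refine Or.inl ?_
      have h1 : a * b = a * t * (t * (b * t) * t⁻¹) := by
        rw [hti]
        calc a * b = a * (t * t) * b * (t * t) := by rw [ht, mul_one, mul_one]
          _ = a * t * (t * (b * t) * t) := by group
      rw [h1]
      exact L.mul_mem ha (hL _ hb)
  inv_mem' := by
    have hti : t⁻¹ = t := inv_eq_of_mul_eq_one_left ht
    rintro a (ha | ha)
    · exact Or.inl (L.inv_mem ha)
    · refine Or.inr ?_
      have h1 : a⁻¹ * t = t * (a * t)⁻¹ * t⁻¹ := by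
        rw [mul_inv_rev, hti]
        calc a⁻¹ * t = (t * t) * a⁻¹ * t := by rw [ht, one_mul]
          _ = t * (t * a⁻¹) * t := by group
      rw [h1]
      exact hL _ (L.inv_mem ha)

theorem mem_extT {L : Subgroup G} {t : G} {ht : t * t = 1} {hL : ∀ l ∈ L, t * l * t⁻¹ ∈ L} {g : G} :
    g ∈ extT L t ht hL ↔ g ∈ L ∨ g * t ∈ L := Iff.rfl

end

section

variable {X G : Type*} [Group X] [Finite X] [Group G] [Finite G] {𝔐 : Ideal AlgInt}

/-- **Wreath defect.** -/
theorem wreath_defect (hM : IsPModular 2 𝔐) (L : Subgroup G) (j : X × X →* G)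
    (hj : Function.Injective j) (hr : j.range = L) (t : G) (ht : t * t = 1)
    (hswap : ∀ x y, t * j (x, y) * t⁻¹ = j (y, x)) (z : X) (hz : ∃ k : ℕ, orderOf (j (z, 1)) = 2 ^ k)
    (hC : Subgroup.centralizer ({j (z, 1)} : Set G) = L) {b₁ : Set (IrrCharacter X)} (hb₁ : IsPBlock 𝔐 b₁)
    {D₁ : Subgroup X} (hD₁ : IsDefectGroup 2 𝔐 b₁ D₁) {B : Set (IrrCharacter G)}
    (hind : IsInducedBlock 𝔐 L (prodBlk L j b₁ b₁) B) {D : Subgroup G} (hD : IsDefectGroup 2 𝔐 B D) :
    ∃ g : G, g * t * g⁻¹ ∈ D ∧ ∀ d ∈ D₁, ∀ d' ∈ D₁, g * j (d, d') * g⁻¹ ∈ D := by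
  classical
  have hMp := isPrime_of_isPModular hM
  by_cases htL : t ∈ L
  · -- everything is trivial
    have hX : ∀ x : X, x = 1 := by
      intro x
      rw [← hr] at htL
      obtain ⟨⟨a, b⟩, rfl⟩ := htL
      have h1 := hswap x 1
      rw [← map_inv, ← map_mul, ← map_mul] at h1
      have h2 := congrArg Prod.snd (hj h1)
      simpa using h2.symm
    have ht1 : t = 1 := by
      rw [← hr] at htL
      obtain ⟨⟨a, b⟩, rfl⟩ := htL
      rw [hX a, hX b]
      exact map_one j
    refine ⟨1, ?_, fun d _ d' _ => ?_⟩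
    · rw [ht1]
      simp
    · rw [hX d, hX d']
      have h1 : j (1, 1) = 1 := map_one j
      rw [h1]
      simp
  · have hLt : ∀ l ∈ L, t * l * t⁻¹ ∈ L := by
      intro l hl
      rw [← hr] at hl ⊢
      obtain ⟨⟨a, b⟩, rfl⟩ := hl
      exact ⟨(b, a), (hswap a b).symm⟩
    have hti : t⁻¹ = t := inv_eq_of_mul_eq_one_left ht
    set H := extT L t ht hLt with hH
    have hLH : L ≤ H := fun l hl => Or.inl hl
    have htH : t ∈ H := Or.inr (by rw [ht]; exact L.one_mem)
    set N : Subgroup H := L.subgroupOf H with hN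
    have hmemN : ∀ y : H, y ∈ N ↔ (y : G) ∈ L := fun y => Subgroup.mem_subgroupOf
    have hidx : N.index = 2 := by
      rw [Subgroup.index_eq_two_iff]
      refine ⟨⟨t, htH⟩, fun b => ?_⟩
      rw [hmemN, hmemN]
      change Xor ((b : G) * t ∈ L) ((b : G) ∈ L)
      rcases b.2 with h | h
      · refine Or.inr ⟨h, fun h' => htL ?_⟩
        have h2 := L.mul_mem (L.inv_mem h) h'
        rwa [← mul_assoc, inv_mul_cancel, one_mul] at h2
      · refine Or.inl ⟨h, fun h' => htL ?_⟩
        have h2 := L.mul_mem (L.inv_mem h') h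
        rwa [← mul_assoc, inv_mul_cancel, one_mul] at h2
    have hNn : N.Normal := Subgroup.normal_of_index_eq_two hidx
    have hjH : ∀ x, j x ∈ H := fun x => hLH (hr ▸ ⟨x, rfl⟩)
    let j' : X × X →* H := j.codRestrict H hjH
    have hj' : Function.Injective j' := fun x y hxy => hj (congrArg Subtype.val hxy)
    have hr' : j'.range = N := by
      ext y
      rw [hmemN, ← hr]
      constructor
      · rintro ⟨x, rfl⟩
        exact ⟨x, rfl⟩
      · rintro ⟨x, hx⟩
        exact ⟨x, Subtype.ext hx⟩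
    obtain ⟨b, hb, P, hP, htP, hdP⟩ := wreath_in hM N j' hj' hr' ⟨t, htH⟩ (Subtype.ext ht)
      (fun h => htL ((hmemN _).1 h)) (by
        intro y hy
        refine ⟨y * ⟨t, htH⟩, ?_, ?_⟩
        · rw [hmemN]
          rcases y.2 with h | h
          · exact absurd ((hmemN _).2 h) hy
          · exact h
        · apply Subtype.ext
          change (y : G) = y * t * t
          rw [mul_assoc, ht, mul_one]) ⟨1, by rw [hidx, pow_one]⟩
      (fun x y => Subtype.ext (hswap x y)) z (by
        obtain ⟨k, hk⟩ := hz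
        refine ⟨k, ?_⟩
        rw [← hk, ← Subgroup.orderOf_coe]
        rfl) (by
        ext y
        rw [hmemN, Subgroup.mem_centralizer_singleton_iff, ← hC, Subgroup.mem_centralizer_singleton_iff,
          Subtype.ext_iff]
        rfl) hb₁ hD₁
    let e : N ≃* L := Subgroup.subgroupOfEquivOfLe hLH
    have he : ∀ x : N, ((e x : L) : G) = ((x : H) : G) := fun x => rfl
    have htr : trB e (prodBlk N j' b₁ b₁) = prodBlk L j b₁ b₁ := by
      ext ξ
      rw [mem_trB]
      constructor
      · rintro ⟨χ₁, h₁, χ₂, h₂, h⟩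
        refine ⟨χ₁, h₁, χ₂, h₂, fun x l hl => ?_⟩
        have h3 := h x (e.symm l) (Subtype.ext (by
          change j x = _
          rw [hl]
          exact (congrArg (fun y : L => (y : G)) (e.apply_symm_apply l)).symm.trans (he _)))
        rw [← h3, tr_apply]
        congr 1
      · rintro ⟨χ₁, h₁, χ₂, h₂, h⟩
        refine ⟨χ₁, h₁, χ₂, h₂, fun x n hn => ?_⟩
        rw [tr_apply]
        refine h x _ ?_
        change j x = ((n : H) : G)
        exact congrArg (fun y : H => (y : G)) hn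
    have hindH : IsInducedBlock 𝔐 H b B := induced_of_trans e he hb (by rw [htr]; exact hind)
    have : Fact (Nat.Prime 2) := ⟨Nat.prime_two⟩
    obtain ⟨E, hE, hPE⟩ := Cfsg.Agent.S0917.result 2 𝔐 hM H b hindH.1 B hindH.2.1 hindH P hP
    obtain ⟨g, rfl⟩ := H662.defectGroup_conj hM hindH.2.1 hE hD
    refine ⟨g, ⟨t, hPE ⟨⟨t, htH⟩, htP, rfl⟩, rfl⟩, fun d hd d' hd' => ?_⟩
    exact ⟨j (d, d'), hPE ⟨j' (d, d'), hdP d hd d' hd', rfl⟩, rfl⟩

end

end Cfsg.Agent.H666.GU
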